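/-
A simple group `G` with a subgroup `H` of odd order whose index is the order of an abelian
Sylow 2-subgroup `T` (so `G = HT`): local analysis.  This is one half of the proof that no
such group exists (`OddHallTwo.Main`).
-/
import Mathlib.GroupTheory.Complement
import Mathlib.GroupTheory.Sylow
import Mathlib.GroupTheory.Transfer
import Mathlib.GroupTheory.GroupAction.Quotient
import Cfsg.Agent.Lib.Cores.Basic
import Cfsg.Agent.Lib.BC77.Hall4.FourFormula

set_option autoImplicit false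
set_option linter.style.haveILetI false

namespace Cfsg.Agent.Lib.BC77.OddHallTwo

open Cfsg.Agent.Lib.BC77.Hall4

variable {G : Type*} [Group G]

/-- The order of `g` is a power of two. -/
def TwoEl (g : G) : Prop := ∃ k : ℕ, g ^ 2 ^ k = 1

theorem eq_one_of_twoEl_pow_odd {g : G} (h : TwoEl g) {m : ℕ} (hm : Odd m) (hg : g ^ m = 1) :
    g = 1 := by
  obtain ⟨k, hk⟩ := h
  have h1 : g ^ Nat.gcd (2 ^ k) m = 1 := pow_gcd_eq_one.mpr ⟨hk, hg⟩
  have h2 : Nat.gcd (2 ^ k) m = 1 := Nat.Coprime.pow_left k hm.coprime_two_left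
  rwa [h2, pow_one] at h1

theorem eq_one_of_twoEl_mem [Finite G] {g : G} (h : TwoEl g) {Q : Subgroup G}
    (hQ : Odd (Nat.card Q)) (hg : g ∈ Q) : g = 1 := by
  refine eq_one_of_twoEl_pow_odd h hQ ?_
  exact congrArg Subtype.val (pow_card_eq_one' (x := (⟨g, hg⟩ : Q)))

theorem twoEl_of_mem {P : Subgroup G} (hP : IsPGroup 2 P) {g : G} (hg : g ∈ P) : TwoEl g := by
  obtain ⟨k, hk⟩ := hP ⟨g, hg⟩
  exact ⟨k, congrArg Subtype.val hk⟩

theorem TwoEl.conj {g : G} (h : TwoEl g) (c : G) : TwoEl (c * g * c⁻¹) := by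
  obtain ⟨k, hk⟩ := h
  exact ⟨k, by rw [conj_pow, hk, mul_one, mul_inv_cancel]⟩

/-- An element of which an odd power centralises an abelian 2-group that it normalises, and
which fixes its involutions, centralises it. -/
theorem commute_of_fixes_involutions {P : Subgroup G} (hP : IsPGroup 2 P)
    (hab : ∀ x ∈ P, ∀ y ∈ P, Commute x y) {g : G} (hn : ∀ x ∈ P, g * x * g⁻¹ ∈ P) {m : ℕ}
    (hm : Odd m) (hgm : ∀ x ∈ P, Commute (g ^ m) x)
    (hfix : ∀ x ∈ P, x * x = 1 → Commute g x) {x : G} (hx : x ∈ P) : Commute g x := by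
  suffices key : ∀ (k : ℕ) (x : G), x ∈ P → x ^ 2 ^ k = 1 → Commute g x by
    obtain ⟨k, hk⟩ := twoEl_of_mem hP hx
    exact key k x hx hk
  intro k
  induction k with
  | zero => intro x _ h; rw [pow_zero, pow_one] at h; rw [h]; exact Commute.one_right g
  | succ k ih =>
    intro x hx h
    have h2 : Commute g (x * x) := by
      refine ih _ (P.mul_mem hx hx) ?_
      rw [← pow_two, ← pow_mul, ← pow_succ']; exact h
    set w := x⁻¹ * (g * x * g⁻¹) with hw
    have hwP : w ∈ P := P.mul_mem (P.inv_mem hx) (hn x hx)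
    have hgx : g * x * g⁻¹ = x * w := by rw [hw, mul_inv_cancel_left]
    have hxw : Commute x w := hab x hx w hwP
    have hw2 : w * w = 1 := by
      have e1 : (g * x * g⁻¹) * (g * x * g⁻¹) = x * x := by
        calc (g * x * g⁻¹) * (g * x * g⁻¹) = g * (x * x) * g⁻¹ := by group
          _ = x * x := by rw [h2.eq, mul_inv_cancel_right]
      rw [hgx] at e1
      have e2 : x * w * (x * w) = x * x * (w * w) := by
        calc x * w * (x * w) = x * (w * x) * w := by group
          _ = x * (x * w) * w := by rw [hxw.eq]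
          _ = x * x * (w * w) := by group
      rw [e2] at e1
      exact mul_left_cancel (a := x * x) (by rw [e1, mul_one])
    have hgw : g * w * g⁻¹ = w := by rw [(hfix w hwP hw2).eq, mul_inv_cancel_right]
    have hiter : ∀ n : ℕ, g ^ n * x * (g ^ n)⁻¹ = x * w ^ n := by
      intro n
      induction n with
      | zero => simp
      | succ n ihn =>
        calc g ^ (n + 1) * x * (g ^ (n + 1))⁻¹ = g * (g ^ n * x * (g ^ n)⁻¹) * g⁻¹ := by
              rw [pow_succ']; group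
          _ = g * (x * w ^ n) * g⁻¹ := by rw [ihn]
          _ = (g * x * g⁻¹) * (g * w * g⁻¹) ^ n := by rw [conj_pow]; group
          _ = x * w ^ (n + 1) := by rw [hgw, hgx, pow_succ', mul_assoc]
    have hwm : w ^ m = 1 := by
      have e := hiter m
      rw [(hgm x hx).eq, mul_inv_cancel_right] at e
      exact mul_left_cancel (a := x) (by rw [← e, mul_one])
    have : w = 1 := eq_one_of_twoEl_pow_odd ⟨1, by rw [pow_one, pow_two]; exact hw2⟩ hm hwm
    rw [this, mul_one, mul_inv_eq_iff_eq_mul] at hgx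
    exact hgx

/-- An element normalising an abelian Sylow 2-subgroup and fixing its involutions centralises it. -/
theorem normalizer_commute [Finite G] (P : Sylow 2 G)
    (hab : ∀ x ∈ (P : Subgroup G), ∀ y ∈ (P : Subgroup G), Commute x y) {g : G}
    (hg : g ∈ Subgroup.normalizer ((P : Subgroup G) : Set G))
    (hfix : ∀ x ∈ (P : Subgroup G), x * x = 1 → Commute g x) {x : G} (hx : x ∈ (P : Subgroup G)) :
    Commute g x := by
  set N := Subgroup.normalizer ((P : Subgroup G) : Set G)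
  refine commute_of_fixes_involutions P.2 hab (fun y hy => ?_)
    (m := ((P : Subgroup G).subgroupOf N).index) ?_ (fun y hy => ?_) hfix hx
  · exact (Subgroup.mem_normalizer_iff.mp hg y).mp hy
  · rw [Nat.odd_iff, ← Nat.two_dvd_ne_zero]
    intro h
    refine P.not_dvd_index (dvd_trans h ?_)
    exact Subgroup.relIndex_dvd_index_of_le Subgroup.le_normalizer
  · have : (⟨g, hg⟩ : N) ^ ((P : Subgroup G).subgroupOf N).index ∈ (P : Subgroup G).subgroupOf N :=
      Subgroup.pow_index_mem _ _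
    exact hab _ (Subgroup.mem_subgroupOf.mp this) y hy

/-- The hypotheses of a minimal counterexample. -/
structure Ctx (H : Subgroup G) (T : Sylow 2 G) : Prop where
  ab : ∀ x ∈ (T : Subgroup G), ∀ y ∈ (T : Subgroup G), Commute x y
  odd : Odd (Nat.card H)
  idx : H.index = Nat.card T
  simple : IsSimpleGroup G
  nonab : ¬ Group.IsSolvable G
  oddSolvable : Odd (Nat.card G) → Group.IsSolvable G
  ih : ∀ L : Subgroup G, L ≠ ⊤ → ((T : Subgroup G) ≤ L ∨ H ≤ L) → Group.IsSolvable L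

namespace Ctx

variable {H : Subgroup G} {T : Sylow 2 G} (c : Ctx H T)
include c

/-- The normalizer of `T`. -/
abbrev M (_c : Ctx H T) : Subgroup G := Subgroup.normalizer ((T : Subgroup G) : Set G)

theorem card_mul [Finite G] : Nat.card H * Nat.card T = Nat.card G := by
  rw [← c.idx, Subgroup.card_mul_index]

theorem coprime [Finite G] : (Nat.card H).Coprime (Nat.card T) := by
  obtain ⟨n, hn⟩ := IsPGroup.iff_card.mp T.2
  rw [show Nat.card T = 2 ^ n from hn]
  exact Nat.Coprime.pow_right n c.odd.coprime_two_right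

theorem compl [Finite G] : Subgroup.IsComplement' (T : Subgroup G) H :=
  Subgroup.isComplement'_of_coprime (by rw [mul_comm]; exact c.card_mul) c.coprime.symm

theorem exists_eq_mul [Finite G] (g : G) : ∃ x ∈ (T : Subgroup G), ∃ h ∈ H, g = x * h := by
  obtain ⟨⟨⟨x, hx⟩, ⟨h, hh⟩⟩, e, -⟩ := c.compl.existsUnique g
  exact ⟨x, hx, h, hh, e.symm⟩

theorem eq_one_of_mem_both [Finite G] {x : G} (hx : x ∈ (T : Subgroup G)) (hh : x ∈ H) : x = 1 :=
  eq_one_of_twoEl_mem (twoEl_of_mem T.2 hx) c.odd hh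

theorem eq_bot_of_normal {N : Subgroup G} [N.Normal] (hN : N ≠ ⊤) : N = ⊥ := by
  haveI := c.simple
  exact (Subgroup.Normal.eq_bot_or_eq_top inferInstance).resolve_right hN

theorem normalizer_ne_top {L : Subgroup G} (h1 : L ≠ ⊥) (h2 : L ≠ ⊤) :
    Subgroup.normalizer (L : Set G) ≠ ⊤ := by
  intro h
  haveI := Subgroup.normalizer_eq_top_iff.mp h
  exact h1 (c.eq_bot_of_normal h2)

theorem T_ne_bot [Finite G] : (T : Subgroup G) ≠ ⊥ := by
  intro h
  refine c.nonab (c.oddSolvable ?_)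
  rw [← c.card_mul, h, Subgroup.card_bot, mul_one]
  exact c.odd

theorem T_ne_top : (T : Subgroup G) ≠ ⊤ := by
  intro h
  refine c.nonab (Group.isSolvable_of_comm fun a b => ?_)
  exact c.ab a (h ▸ Subgroup.mem_top a) b (h ▸ Subgroup.mem_top b)

theorem M_ne_top [Finite G] : c.M ≠ ⊤ := c.normalizer_ne_top c.T_ne_bot c.T_ne_top

theorem conj_mem_T {g x : G} (hg : g ∈ c.M) (hx : x ∈ (T : Subgroup G)) :
    g * x * g⁻¹ ∈ (T : Subgroup G) :=
  (Subgroup.mem_normalizer_iff.mp hg x).mp hx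

theorem mem_T_of_twoEl [Finite G] {g : G} (hg : g ∈ c.M) (h : TwoEl g) : g ∈ (T : Subgroup G) := by
  set m := ((T : Subgroup G).subgroupOf c.M).index
  have hm : Odd m := by
    rw [Nat.odd_iff, ← Nat.two_dvd_ne_zero]
    intro h
    exact T.not_dvd_index (dvd_trans h (Subgroup.relIndex_dvd_index_of_le Subgroup.le_normalizer))
  have h1 : g ^ m ∈ (T : Subgroup G) := by
    have := Subgroup.pow_index_mem ((T : Subgroup G).subgroupOf c.M) (⟨g, hg⟩ : c.M)
    exact Subgroup.mem_subgroupOf.mp this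
  obtain ⟨k, hk⟩ := h
  obtain ⟨i, hi⟩ := exists_pow_eq_self_of_coprime
    ((Nat.Coprime.pow_right k hm.coprime_two_right).coprime_dvd_right (orderOf_dvd_of_pow_eq_one hk))
  rw [← hi]
  exact Subgroup.pow_mem _ h1 i

/-- A `p`-subgroup, `p` odd, normalised by `T` is trivial. -/
theorem eq_bot_of_T_invariant [Finite G] {p : ℕ} [Fact p.Prime] (hp : p ≠ 2) {R : Subgroup G}
    (hR : IsPGroup p R) (hinv : ∀ x ∈ (T : Subgroup G), ∀ r ∈ R, x * r * x⁻¹ ∈ R) : R = ⊥ := by
  have hTp : ¬ p ∣ Nat.card T := by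
    intro h
    obtain ⟨n, hn⟩ := IsPGroup.iff_card.mp T.2
    exact hp ((Nat.prime_dvd_prime_iff_eq Fact.out Nat.prime_two).mp
      ((Fact.out : p.Prime).dvd_of_dvd_pow (hn ▸ h)))
  let P : Sylow p H := default
  have hPc : IsPGroup p ((P : Subgroup H).map H.subtype) := P.2.map _
  have hidx : ¬ p ∣ ((P : Subgroup H).map H.subtype).index := by
    rw [Subgroup.index_map_subtype, c.idx]
    exact fun h => ((Fact.out : p.Prime).dvd_mul.mp h).elim P.not_dvd_index hTp
  obtain ⟨S, hS⟩ := hR.exists_le_sylow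
  obtain ⟨g, hg⟩ := MulAction.exists_smul_eq G S (hPc.toSylow hidx)
  have hRH : ∀ r ∈ R, g * r * g⁻¹ ∈ H := by
    intro r hr
    have h1 : g * r * g⁻¹ ∈ (g • S : Sylow p G) := by
      rw [← SetLike.mem_coe, Sylow.coe_smul]
      exact ⟨r, hS hr, rfl⟩
    rw [hg] at h1
    obtain ⟨⟨y, hy⟩, -, rfl⟩ := Subgroup.mem_map.mp h1
    exact hy
  obtain ⟨x, hx, h, hh, he⟩ := c.exists_eq_mul g⁻¹
  have hRH' : ∀ r ∈ R, r ∈ H := by
    intro r hr
    have h1 := hRH _ (hinv x hx r hr)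
    have e : g * (x * r * x⁻¹) * g⁻¹ = h⁻¹ * r * h := by
      rw [show g = h⁻¹ * x⁻¹ by rw [← mul_inv_rev, ← he, inv_inv]]; group
    rw [e] at h1
    have := H.mul_mem (H.mul_mem hh h1) (H.inv_mem hh)
    rwa [show h * (h⁻¹ * r * h) * h⁻¹ = r by group] at this
  have hnc : Subgroup.normalClosure (R : Set G) ≤ H := by
    rw [Subgroup.normalClosure, Subgroup.closure_le]
    intro y hy
    obtain ⟨r, hr, hc⟩ := Group.mem_conjugatesOfSet_iff.mp hy
    obtain ⟨d, rfl⟩ := isConj_iff.mp hc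
    obtain ⟨x, hx, h, hh, he⟩ := c.exists_eq_mul d⁻¹
    have h1 := H.mul_mem (H.mul_mem (H.inv_mem hh) (hRH' _ (hinv x⁻¹ ((T : Subgroup G).inv_mem hx) r hr))) hh
    have e : d = h⁻¹ * x⁻¹ := by rw [← mul_inv_rev, ← he, inv_inv]
    rw [SetLike.mem_coe, e]
    convert h1 using 1
    group
  have hne : Subgroup.normalClosure (R : Set G) ≠ ⊤ := by
    intro h
    rw [h, top_le_iff] at hnc
    have := c.idx
    rw [hnc, Subgroup.index_top] at this
    exact c.T_ne_bot (Subgroup.card_eq_one.mp this.symm)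
  exact le_bot_iff.mp ((c.eq_bot_of_normal hne) ▸ Subgroup.subset_normalClosure)

/-- A proper subgroup containing `T` normalises it. -/
theorem le_M_of_T_le [Finite G] {L : Subgroup G} (hL : L ≠ ⊤) (hT : (T : Subgroup G) ≤ L) :
    L ≤ c.M := by
  haveI := c.ih L hL (Or.inl hT)
  let TL : Sylow 2 L := T.subtype hT
  have hle : Cfsg.fittingSubgroup L ≤ (TL : Subgroup L) := by
    rw [Cores.fittingSubgroup_eq_iSup_pCore]
    refine iSup_le fun q => ?_
    obtain ⟨p, hp⟩ := q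
    haveI : Fact p.Prime := ⟨hp⟩
    rcases eq_or_ne p 2 with rfl | h2
    · exact Cores.pCore_le_sylow TL
    · have hbot : (Cfsg.pCore p L).map L.subtype = ⊥ := by
        refine c.eq_bot_of_T_invariant h2 ((Cores.pCore_isPGroup p).map _) fun x hx r hr => ?_
        obtain ⟨y, hy, rfl⟩ := Subgroup.mem_map.mp hr
        refine Subgroup.mem_map.mpr ⟨⟨x, hT hx⟩ * y * ⟨x, hT hx⟩⁻¹, ?_, rfl⟩
        exact (inferInstance : (Cfsg.pCore p L).Normal).conj_mem y hy _
      rw [Subgroup.map_eq_bot_iff_of_injective _ L.subtype_injective] at hbot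
      rw [hbot]; exact bot_le
  have hcent : (TL : Subgroup L) ≤ Cfsg.fittingSubgroup L := by
    refine le_trans (fun x hx => ?_) Cores.centralizer_fittingSubgroup_le
    rw [Subgroup.mem_centralizer_iff]
    intro y hy
    exact Subtype.ext (c.ab _ (hle hy) _ hx).eq
  have heq : (TL : Subgroup L) = Cfsg.fittingSubgroup L := le_antisymm hcent hle
  haveI : (TL : Subgroup L).Normal := by rw [heq]; infer_instance
  intro g hg
  rw [Subgroup.mem_normalizer_iff]
  intro x
  constructor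
  · intro hx
    have := (inferInstance : (TL : Subgroup L).Normal).conj_mem ⟨x, hT hx⟩ hx ⟨g, hg⟩
    exact this
  · intro hx
    have := (inferInstance : (TL : Subgroup L).Normal).conj_mem ⟨g * x * g⁻¹, hT hx⟩ hx
      (⟨g, hg⟩⁻¹)
    have e : g⁻¹ * (g * x * g⁻¹) * g⁻¹⁻¹ = x := by group
    exact e ▸ this

/-- Involution centralisers of elements of `T` normalise `T`. -/
theorem mem_M_of_commute [Finite G] {r g : G} (hr : r ∈ (T : Subgroup G)) (hr1 : r ≠ 1)
    (hg : Commute g r) : g ∈ c.M := by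
  refine c.le_M_of_T_le (L := Subgroup.centralizer {r}) ?_ ?_
    (Subgroup.mem_centralizer_singleton_iff.mpr hg.eq)
  · intro h
    have hz : r ∈ Subgroup.center G :=
      Subgroup.mem_center_iff.mpr fun x => (Subgroup.mem_centralizer_singleton_iff.mp
        (h ▸ Subgroup.mem_top x))
    have hne : Subgroup.center G ≠ ⊤ := fun ht => c.nonab (Group.isSolvable_of_comm fun a b =>
      (Subgroup.mem_center_iff.mp (ht ▸ Subgroup.mem_top b) a))
    exact hr1 (Subgroup.mem_bot.mp (c.eq_bot_of_normal hne ▸ hz))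
  · exact fun x hx => Subgroup.mem_centralizer_singleton_iff.mpr (c.ab x hx r hr).eq

/-- `T` is a trivial intersection subgroup. -/
theorem mem_M_of_conj [Finite G] {x g : G} (hx : x ∈ (T : Subgroup G)) (hx1 : x ≠ 1)
    (hgx : g * x * g⁻¹ ∈ (T : Subgroup G)) : g ∈ c.M := by
  have hsub : ∀ y ∈ (T : Subgroup G), g * y * g⁻¹ ∈ (T : Subgroup G) := by
    intro y hy
    refine c.mem_T_of_twoEl (c.mem_M_of_commute hgx ?_ ?_) ((twoEl_of_mem T.2 hy).conj g)
    · intro h
      rw [mul_inv_eq_one, mul_eq_left] at h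
      exact hx1 h
    · have e := c.ab y hy x hx
      unfold Commute SemiconjBy at *
      calc g * y * g⁻¹ * (g * x * g⁻¹) = g * (y * x) * g⁻¹ := by group
        _ = g * (x * y) * g⁻¹ := by rw [e]
        _ = g * x * g⁻¹ * (g * y * g⁻¹) := by group
  rw [Subgroup.mem_normalizer_iff]
  refine fun y => ⟨hsub y, fun hy => ?_⟩
  have heq : (T : Subgroup G).map (MulAut.conj g).toMonoidHom = (T : Subgroup G) := by
    refine Subgroup.eq_of_le_of_card_ge ?_ (le_of_eq ?_)
    · rintro z ⟨y, hy, rfl⟩; exact hsub y hy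
    · rw [Subgroup.card_map_of_injective (MulAut.conj g).injective]
  rw [← heq] at hy
  obtain ⟨z, hz, e⟩ := hy
  have : z = y := mul_left_cancel (mul_right_cancel (e : g * z * g⁻¹ = g * y * g⁻¹))
  rwa [← this]

theorem exists_conj_mem_T [Finite G] {r : G} (hr : TwoEl r) :
    ∃ g : G, g * r * g⁻¹ ∈ (T : Subgroup G) := by
  obtain ⟨k, hk⟩ := hr
  have hp : IsPGroup 2 (Subgroup.zpowers r) := by
    obtain ⟨j, -, hj⟩ := (Nat.dvd_prime_pow Nat.prime_two).mp (orderOf_dvd_of_pow_eq_one hk)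
    exact IsPGroup.of_card (n := j) (by rw [Nat.card_zpowers, hj])
  obtain ⟨S, hS⟩ := hp.exists_le_sylow
  obtain ⟨g, hg⟩ := MulAction.exists_smul_eq G S T
  refine ⟨g, ?_⟩
  rw [← hg, Sylow.coe_subgroup_smul]
  exact ⟨r, hS (Subgroup.mem_zpowers r), rfl⟩

/-- Two elements of a common 2-subgroup commute. -/
theorem commute_of_twoGroup [Finite G] {P : Subgroup G} (hP : IsPGroup 2 P) {x y : G} (hx : x ∈ P)
    (hy : y ∈ P) : Commute x y := by
  obtain ⟨S, hS⟩ := hP.exists_le_sylow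
  obtain ⟨g, hg⟩ := MulAction.exists_smul_eq G S T
  have hmem : ∀ z ∈ P, g * z * g⁻¹ ∈ (T : Subgroup G) := fun z hz => by
    rw [← hg, Sylow.coe_subgroup_smul]
    exact ⟨z, hS hz, rfl⟩
  have e := (c.ab _ (hmem x hx) _ (hmem y hy)).eq
  rw [show g * x * g⁻¹ * (g * y * g⁻¹) = g * (x * y) * g⁻¹ by group,
    show g * y * g⁻¹ * (g * x * g⁻¹) = g * (y * x) * g⁻¹ by group] at e
  exact mul_left_cancel (mul_right_cancel e)

/-- Commutators inside the centralizer of an involution with an involution there are 2-elements. -/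
theorem twoEl_commutator [Finite G] {r s z : G} (hr : r * r = 1) (hr1 : r ≠ 1) (hs : s * s = 1)
    (hsr : Commute s r) (hzr : Commute z r) : TwoEl (z * s * z⁻¹ * s⁻¹) := by
  obtain ⟨g, hg⟩ := c.exists_conj_mem_T (r := r) ⟨1, by rw [pow_one, pow_two, hr]⟩
  have hg1 : g * r * g⁻¹ ≠ 1 := by
    intro h
    rw [mul_inv_eq_one, mul_eq_left] at h
    exact hr1 h
  have hcomm : ∀ y : G, Commute y r → Commute (g * y * g⁻¹) (g * r * g⁻¹) := fun y hy => by
    unfold Commute SemiconjBy at *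
    calc g * y * g⁻¹ * (g * r * g⁻¹) = g * (y * r) * g⁻¹ := by group
      _ = g * (r * y) * g⁻¹ := by rw [hy]
      _ = g * r * g⁻¹ * (g * y * g⁻¹) := by group
  have hsT : g * s * g⁻¹ ∈ (T : Subgroup G) :=
    c.mem_T_of_twoEl (c.mem_M_of_commute hg hg1 (hcomm s hsr))
      (TwoEl.conj ⟨1, by rw [pow_one, pow_two, hs]⟩ g)
  have h2 := (T : Subgroup G).mul_mem
    (c.conj_mem_T (c.mem_M_of_commute hg hg1 (hcomm z hzr)) hsT) ((T : Subgroup G).inv_mem hsT)
  have h3 := (twoEl_of_mem T.2 h2).conj g⁻¹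
  convert h3 using 1
  group

/-- No element of odd order is inverted by one and centralised by the other of two commuting
involutions. -/
theorem eq_one_of_inverted [Finite G] {r s z : G} (hr : r * r = 1) (hr1 : r ≠ 1) (hs : s * s = 1)
    (hsr : Commute s r) (hzr : Commute z r) (hz : Odd (orderOf z)) (hinv : s * z * s⁻¹ = z⁻¹) :
    z = 1 := by
  have hsi : s⁻¹ = s := inv_eq_of_mul_eq_one_right hs
  have e : z * s * z⁻¹ * s⁻¹ = z * z := by
    rw [show z * s * z⁻¹ * s⁻¹ = z * (s * z * s⁻¹)⁻¹ by group, hinv, inv_inv]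
  have h2 := c.twoEl_commutator hr hr1 hs hsr hzr
  rw [e] at h2
  have h3 : z * z = 1 :=
    eq_one_of_twoEl_pow_odd h2 hz (by rw [← pow_two, ← pow_mul, mul_comm, pow_mul,
      pow_orderOf_eq_one, one_pow])
  exact eq_one_of_twoEl_pow_odd ⟨1, by rw [pow_one, pow_two, h3]⟩ hz (pow_orderOf_eq_one z)

/-- Two commuting involutions normalising a subgroup of odd order centralise it. -/
theorem four_centralize [Finite G] {x y : G} (hx : x * x = 1) (hx1 : x ≠ 1) (hy : y * y = 1)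
    (hy1 : y ≠ 1) (hxy1 : x * y ≠ 1) (hxy : x * y = y * x) {Q : Subgroup G}
    (hQ : Odd (Nat.card Q)) (hnx : ∀ q ∈ Q, x * q * x⁻¹ ∈ Q) (hny : ∀ q ∈ Q, y * q * y⁻¹ ∈ Q)
    {q : G} (hq : q ∈ Q) : Commute q x := by
  have key : ∀ r s : G, r * r = 1 → r ≠ 1 → s * s = 1 → r * s = s * r →
      (∀ q ∈ Q, s * q * s⁻¹ ∈ Q) → fx r Q ≤ fx s Q := by
    intro r s hr hr1 hs hrs hns z hz
    obtain ⟨hzQ, hzr⟩ := mem_fx.mp hz
    have hzr' : Commute z r := hzr.symm
    have hsr : Commute s r := hrs.symm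
    have h1 : z * s * z⁻¹ * s⁻¹ = 1 :=
      eq_one_of_twoEl_mem (c.twoEl_commutator hr hr1 hs hsr hzr') hQ (by
        rw [show z * s * z⁻¹ * s⁻¹ = z * (s * z⁻¹ * s⁻¹) by group]
        exact Q.mul_mem hzQ (hns _ (Q.inv_mem hzQ)))
    refine mem_fx.mpr ⟨hzQ, ?_⟩
    rw [mul_inv_eq_one, mul_inv_eq_iff_eq_mul] at h1
    exact h1.symm
  have hxy2 : x * y * (x * y) = 1 := by
    calc x * y * (x * y) = x * (y * x) * y := by group
      _ = x * (x * y) * y := by rw [hxy]
      _ = (x * x) * (y * y) := by group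
      _ = 1 := by rw [hx, hy, one_mul]
  have hnxy : ∀ q ∈ Q, x * y * q * (x * y)⁻¹ ∈ Q := fun q hq => by
    rw [show x * y * q * (x * y)⁻¹ = x * (y * q * y⁻¹) * x⁻¹ by group]
    exact hnx _ (hny q hq)
  have hxxy : x * (x * y) = x * y * x := by rw [mul_assoc x y x, hxy]
  have e1 : fx x Q = fx y Q :=
    le_antisymm (key x y hx hx1 hy hxy hny) (key y x hy hy1 hx hxy.symm hnx)
  have e2 : fx x Q = fx (x * y) Q :=
    le_antisymm (key x (x * y) hx hx1 hxy2 hxxy hnxy)
      (key (x * y) x hxy2 hxy1 hx hxxy.symm hnx)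
  have hcard := card_four hQ hx hy hxy hnx hny
  rw [← e1, ← e2, inf_idem, show Nat.card (fx x Q) * Nat.card (fx x Q) * Nat.card (fx x Q)
    = Nat.card (fx x Q) * Nat.card (fx x Q) ^ 2 by ring] at hcard
  have h := Nat.eq_of_mul_eq_mul_right (pow_pos Nat.card_pos 2) hcard
  have : fx x Q = Q := Subgroup.eq_of_le_of_card_ge inf_le_left h.le
  rw [← this] at hq
  exact ((mem_fx.mp hq).2).symm

theorem exists_involution [Finite G] {L : Subgroup G} (hL : L ≠ ⊥) (hLT : L ≤ (T : Subgroup G)) :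
    ∃ t ∈ L, t * t = 1 ∧ t ≠ 1 := by
  have hd : 2 ∣ Nat.card L := by
    obtain ⟨n, hn⟩ := IsPGroup.iff_card.mp (T.2.to_le hLT)
    rcases n with _ | n
    · exact absurd (Subgroup.card_eq_one.mp (by rw [hn, pow_zero])) hL
    · rw [hn]; exact dvd_pow_self 2 (by simp)
  obtain ⟨⟨t, ht⟩, ho⟩ := exists_prime_orderOf_dvd_card' 2 hd
  refine ⟨t, ht, ?_, fun h => ?_⟩
  · have := pow_orderOf_eq_one (⟨t, ht⟩ : L)
    rw [ho, pow_two] at this
    exact congrArg Subtype.val this
  · subst h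
    simp at ho

/-- An element centralising all involutions of `T` centralises `T`. -/
theorem commute_T [Finite G] {g : G} (hfix : ∀ x ∈ (T : Subgroup G), x * x = 1 → Commute g x)
    {x : G} (hx : x ∈ (T : Subgroup G)) : Commute g x := by
  obtain ⟨t, ht, ht2, ht1⟩ := c.exists_involution c.T_ne_bot le_rfl
  exact normalizer_commute T c.ab (c.mem_M_of_commute ht ht1 (hfix t ht ht2)) hfix hx

/-- `T` contains two distinct involutions. -/
theorem exists_four [Finite G] : ∃ x ∈ (T : Subgroup G), ∃ y ∈ (T : Subgroup G),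
    x * x = 1 ∧ x ≠ 1 ∧ y * y = 1 ∧ y ≠ 1 ∧ x * y ≠ 1 := by
  obtain ⟨t, ht, ht2, ht1⟩ := c.exists_involution c.T_ne_bot le_rfl
  by_contra hne
  push Not at hne
  have huniq : ∀ y ∈ (T : Subgroup G), y * y = 1 → y ≠ 1 → y = t := fun y hy hy2 hy1 => by
    have := hne t ht y hy ht2 ht1 hy2 hy1
    rw [← inv_eq_of_mul_eq_one_right ht2]
    exact eq_inv_of_mul_eq_one_right this
  have hle : Subgroup.normalizer ((T : Subgroup G) : Set G)
      ≤ Subgroup.centralizer ((T : Subgroup G) : Set G) := by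
    intro g hg
    rw [Subgroup.mem_centralizer_iff]
    intro x hx
    refine (normalizer_commute T c.ab hg (fun y hy hy2 => ?_) hx).eq.symm
    by_cases hy1 : y = 1
    · rw [hy1]; exact Commute.one_right g
    have h1 := c.conj_mem_T hg hy
    have h2 : g * y * g⁻¹ * (g * y * g⁻¹) = 1 := by
      rw [show g * y * g⁻¹ * (g * y * g⁻¹) = g * (y * y) * g⁻¹ by group, hy2, mul_one, mul_inv_cancel]
    have h3 : g * y * g⁻¹ ≠ 1 := fun h => hy1 (by rw [mul_inv_eq_one, mul_eq_left] at h; exact h)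
    have e := huniq _ h1 h2 h3
    rw [← huniq y hy hy2 hy1, mul_inv_eq_iff_eq_mul] at e
    exact e
  have hc := MonoidHom.ker_transferSylow_isComplement' T hle
  rcases eq_or_ne (MonoidHom.transferSylow T hle).ker ⊤ with h | h
  · have hnd := MonoidHom.not_dvd_card_ker_transferSylow T hle
    rw [h, Subgroup.card_top] at hnd
    refine hnd (dvd_trans ?_ (Subgroup.card_subgroup_dvd_card (T : Subgroup G)))
    obtain ⟨n, hn⟩ := IsPGroup.iff_card.mp T.2
    rcases n with _ | n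
    · exact absurd (Subgroup.card_eq_one.mp (by rw [hn, pow_zero])) c.T_ne_bot
    · rw [hn]; exact dvd_pow_self 2 (by simp)
  · have h0 := hc.card_mul
    rw [c.eq_bot_of_normal h, Subgroup.card_bot, one_mul, ← Subgroup.card_top (G := G)] at h0
    exact c.T_ne_top (Subgroup.eq_top_of_card_eq _ (h0.trans Subgroup.card_top))

/-- Involutions of `T` are conjugate inside `H`. -/
theorem involutions_fused [Finite G] {t u : G} (ht : t ∈ (T : Subgroup G)) (ht2 : t * t = 1)
    (ht1 : t ≠ 1) (hu : u ∈ (T : Subgroup G)) (hu2 : u * u = 1) (hu1 : u ≠ 1) :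
    ∃ h ∈ H, h ∈ c.M ∧ h * t * h⁻¹ = u := by
  obtain ⟨g, hg⟩ : ∃ g, g ∉ c.M := by
    by_contra h
    push Not at h
    exact c.M_ne_top (eq_top_iff.mpr fun x _ => h x)
  set v := g * u * g⁻¹ with hv
  have hv2 : v * v = 1 := by
    rw [hv, show g * u * g⁻¹ * (g * u * g⁻¹) = g * (u * u) * g⁻¹ by group, hu2, mul_one,
      mul_inv_cancel]
  have hvT : v ∉ (T : Subgroup G) := fun h => hg (c.mem_M_of_conj hu hu1 h)
  have hti : t⁻¹ = t := inv_eq_of_mul_eq_one_right ht2
  have hvi : v⁻¹ = v := inv_eq_of_mul_eq_one_right hv2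
  have hodd : Odd (orderOf (t * v)) := by
    rw [Nat.odd_iff, ← Nat.two_dvd_ne_zero]
    rintro ⟨k, hk⟩
    have hpos := orderOf_pos (t * v)
    set w := (t * v) ^ k with hw
    have hw1 : w ≠ 1 := fun h => by
      have := Nat.le_of_dvd (by omega) (orderOf_dvd_of_pow_eq_one h)
      omega
    have hw2 : w * w = 1 := by rw [hw, ← pow_add, ← two_mul, ← hk, pow_orderOf_eq_one]
    have hwi : w⁻¹ = w := inv_eq_of_mul_eq_one_right hw2
    have htw : Commute w t := by
      have e : t * (t * v) ^ k * t⁻¹ = ((t * v) ^ k)⁻¹ := by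
        rw [← conj_pow, ← inv_pow]
        congr 1
        rw [mul_inv_rev, hvi, hti, ← mul_assoc t t v, ht2, one_mul]
      rw [← hw, hwi, mul_inv_eq_iff_eq_mul] at e
      exact e.symm
    have hwv : Commute v w := by
      have e : v * (t * v) ^ k * v⁻¹ = ((t * v) ^ k)⁻¹ := by
        rw [← conj_pow, ← inv_pow]
        congr 1
        calc v * (t * v) * v⁻¹ = v * t := by group
          _ = (t * v)⁻¹ := by rw [mul_inv_rev, hvi, hti]
      rw [← hw, hwi, mul_inv_eq_iff_eq_mul] at e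
      exact e
    have hwT : w ∈ (T : Subgroup G) :=
      c.mem_T_of_twoEl (c.mem_M_of_commute ht ht1 htw) ⟨1, by rw [pow_one, pow_two, hw2]⟩
    exact hvT (c.mem_T_of_twoEl (c.mem_M_of_commute hwT hw1 hwv)
      ⟨1, by rw [pow_one, pow_two, hv2]⟩)
  obtain ⟨k, hk⟩ := hodd
  set d := (t * v) ^ (k + 1) with hd
  have hdv : d⁻¹ * t * d = v := by
    have h1 : t * d * t⁻¹ = d⁻¹ := by
      rw [hd, ← conj_pow, ← inv_pow]
      congr 1
      rw [mul_inv_rev, hvi, hti, ← mul_assoc t t v, ht2, one_mul]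
    have h2 : d * d = t * v := by
      rw [hd, ← pow_add, show k + 1 + (k + 1) = 2 * k + 1 + 1 by ring, pow_succ, ← hk,
        pow_orderOf_eq_one, one_mul]
    calc d⁻¹ * t * d = t * d * t⁻¹ * t * d := by rw [h1]
      _ = t * (d * d) := by group
      _ = v := by rw [h2, ← mul_assoc, ht2, one_mul]
  set f := g⁻¹ * d⁻¹ with hf
  have hfu : f * t * f⁻¹ = u := by
    rw [hf, show g⁻¹ * d⁻¹ * t * (g⁻¹ * d⁻¹)⁻¹ = g⁻¹ * (d⁻¹ * t * d) * g by group, hdv, hv]
    group
  have hfM : f ∈ c.M := c.mem_M_of_conj ht ht1 (by rw [hfu]; exact hu)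
  obtain ⟨x, hx, h, hh, he⟩ := c.exists_eq_mul f
  have hhM : h ∈ c.M := by
    have : h = x⁻¹ * f := by rw [he, inv_mul_cancel_left]
    rw [this]
    exact c.M.mul_mem (c.M.inv_mem (Subgroup.le_normalizer hx)) hfM
  refine ⟨h, hh, hhM, ?_⟩
  have e1 : h * t * h⁻¹ = x⁻¹ * u * x := by rw [← hfu, he]; group
  rw [e1, mul_assoc, (c.ab u hu x hx).eq, inv_mul_cancel_left]

/-- An odd prime power subgroup normalised by all involutions of `T` is trivial. -/
theorem eq_bot_of_involutions_invariant [Finite G] {p : ℕ} [Fact p.Prime] (hp : p ≠ 2)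
    {R : Subgroup G} (hR : IsPGroup p R)
    (hinv : ∀ x ∈ (T : Subgroup G), x * x = 1 → ∀ r ∈ R, x * r * x⁻¹ ∈ R) : R = ⊥ := by
  have hodd : Odd (Nat.card R) := by
    obtain ⟨n, hn⟩ := IsPGroup.iff_card.mp hR
    rw [hn]
    exact ((Fact.out : p.Prime).odd_of_ne_two hp).pow
  obtain ⟨x, hx, y, hy, hx2, hx1, hy2, hy1, hxy⟩ := c.exists_four
  have hfix : ∀ w ∈ (T : Subgroup G), w * w = 1 → ∀ r ∈ R, Commute r w := by
    intro w hw hw2 r hr
    by_cases hw1 : w = 1
    · rw [hw1]; exact Commute.one_right r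
    obtain ⟨w', hw', hw'2, hw'1, hww'⟩ : ∃ w' ∈ (T : Subgroup G), w' * w' = 1 ∧ w' ≠ 1
        ∧ w * w' ≠ 1 := by
      by_cases h : w * x = 1
      · refine ⟨y, hy, hy2, hy1, fun h' => hxy ?_⟩
        rw [mul_left_cancel (h.trans h'.symm), hy2]
      · exact ⟨x, hx, hx2, hx1, h⟩
    exact c.four_centralize hw2 hw1 hw'2 hw'1 hww' (c.ab w hw w' hw').eq hodd (hinv w hw hw2)
      (hinv w' hw' hw'2) hr
  refine c.eq_bot_of_T_invariant hp hR fun w hw r hr => ?_
  rw [((c.commute_T (fun v hv hv2 => hfix v hv hv2 r hr) hw).symm).eq, mul_inv_cancel_right]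
  exact hr

/-- `H` is a maximal subgroup. -/
theorem eq_of_H_le [Finite G] {L : Subgroup G} (hL : L ≠ ⊤) (hHL : H ≤ L) : L = H := by
  by_contra hne
  obtain ⟨g, hgL, hgH⟩ : ∃ g ∈ L, g ∉ H := by
    by_contra h
    push Not at h
    exact hne (le_antisymm h hHL)
  set U : Subgroup G := (T : Subgroup G) ⊓ L
  have hU1 : U ≠ ⊥ := by
    intro hbot
    obtain ⟨x, hx, h, hh, he⟩ := c.exists_eq_mul g
    have hxU : x ∈ U := ⟨hx, by
      have : x = g * h⁻¹ := by rw [he, mul_inv_cancel_right]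
      rw [this]; exact L.mul_mem hgL (L.inv_mem (hHL hh))⟩
    rw [hbot, Subgroup.mem_bot] at hxU
    rw [hxU, one_mul] at he
    exact hgH (he ▸ hh)
  obtain ⟨t, htU, ht2, ht1⟩ := c.exists_involution hU1 inf_le_left
  have hinvL : ∀ w ∈ (T : Subgroup G), w * w = 1 → w ∈ L := by
    intro w hw hw2
    by_cases hw1 : w = 1
    · rw [hw1]; exact L.one_mem
    obtain ⟨h, hh, -, e⟩ := c.involutions_fused htU.1 ht2 ht1 hw hw2 hw1
    rw [← e]
    exact L.mul_mem (L.mul_mem (hHL hh) htU.2) (L.inv_mem (hHL hh))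
  haveI := c.ih L hL (Or.inr hHL)
  haveI : Nontrivial L := ⟨⟨⟨t, htU.2⟩, 1, fun h => ht1 (congrArg Subtype.val h)⟩⟩
  have hF := Cores.fittingSubgroup_ne_bot (G := L)
  obtain ⟨p, hp, hpne⟩ : ∃ p : ℕ, p.Prime ∧ Cfsg.pCore p L ≠ ⊥ := by
    by_contra h
    push Not at h
    apply hF
    rw [Cores.fittingSubgroup_eq_iSup_pCore, eq_bot_iff]
    exact iSup_le fun q => (h q.1 q.2).le
  haveI : Fact p.Prime := ⟨hp⟩
  set R := (Cfsg.pCore p L).map L.subtype with hRdef
  have hR : IsPGroup p R := (Cores.pCore_isPGroup p).map _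
  have hRne : R ≠ ⊥ := fun h =>
    hpne ((Subgroup.map_eq_bot_iff_of_injective _ L.subtype_injective).mp h)
  have hLR : ∀ l ∈ L, ∀ r ∈ R, l * r * l⁻¹ ∈ R := by
    intro l hl r hr
    obtain ⟨y, hy, rfl⟩ := Subgroup.mem_map.mp hr
    exact Subgroup.mem_map.mpr ⟨⟨l, hl⟩ * y * ⟨l, hl⟩⁻¹,
      (inferInstance : (Cfsg.pCore p L).Normal).conj_mem y hy _, rfl⟩
  rcases eq_or_ne p 2 with rfl | h2
  · obtain ⟨S, hS⟩ :=
      ((T.2.to_le (inf_le_left : U ≤ _)).comap_of_injective L.subtype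
        L.subtype_injective).exists_le_sylow
    have hSU : (S : Subgroup L).map L.subtype ≤ U := by
      intro z hz
      obtain ⟨y, hy, rfl⟩ := Subgroup.mem_map.mp hz
      have hcomm : Commute (y : G) t := c.commute_of_twoGroup (S.2.map L.subtype)
        (Subgroup.mem_map.mpr ⟨y, hy, rfl⟩)
        (Subgroup.mem_map.mpr ⟨⟨t, htU.2⟩, hS (Subgroup.mem_subgroupOf.mpr htU), rfl⟩)
      exact ⟨c.mem_T_of_twoEl (c.mem_M_of_commute htU.1 ht1 hcomm)
        (twoEl_of_mem (S.2.map L.subtype) (Subgroup.mem_map.mpr ⟨y, hy, rfl⟩)), y.2⟩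
    have hRT : R ≤ (T : Subgroup G) := by
      intro r hr
      obtain ⟨y, hy, rfl⟩ := Subgroup.mem_map.mp hr
      exact (hSU (Subgroup.mem_map.mpr ⟨y, Cores.pCore_le_sylow S hy, rfl⟩)).1
    have hRtop : R ≠ ⊤ := fun h => c.T_ne_top (top_le_iff.mp (h ▸ hRT))
    have hle := c.le_M_of_T_le (c.normalizer_ne_top hRne hRtop) (L := Subgroup.normalizer (R : Set G))
      (fun x hx => Subgroup.mem_normalizer_iff.mpr fun r => ⟨fun hr => by
        rw [(c.ab x hx r (hRT hr)).eq, mul_inv_cancel_right]; exact hr, fun hr => by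
        have hx' := (T : Subgroup G).inv_mem hx
        have e : x⁻¹ * (x * r * x⁻¹) * x⁻¹⁻¹ = r := by group
        rw [← e, (c.ab x⁻¹ hx' _ (hRT hr)).eq, mul_inv_cancel_right]; exact hr⟩)
    refine c.M_ne_top (eq_top_iff.mpr fun z _ => ?_)
    obtain ⟨x, hx, h, hh, rfl⟩ := c.exists_eq_mul z
    refine c.M.mul_mem (Subgroup.le_normalizer hx) (hle (Subgroup.mem_normalizer_iff.mpr fun r =>
      ⟨hLR h (hHL hh) r, fun hr => ?_⟩))
    have e : h⁻¹ * (h * r * h⁻¹) * h⁻¹⁻¹ = r := by group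
    rw [← e]
    exact hLR _ (L.inv_mem (hHL hh)) _ hr
  · exact hRne (c.eq_bot_of_involutions_invariant h2 hR fun w hw hw2 r hr =>
      hLR w (hinvL w hw hw2) r hr)

end Ctx

end Cfsg.Agent.Lib.BC77.OddHallTwo
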