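/-
The action on the cosets of `H` is doubly transitive (a parity version of Schur's second
multiplier theorem for the regular abelian 2-group `T`).
-/
import Mathlib.Algebra.BigOperators.Ring.Finset
import Mathlib.Data.ZMod.Basic
import Cfsg.Agent.Lib.BC77.OddHallTwo.Local

set_option autoImplicit false
set_option linter.style.haveILetI false

namespace Cfsg.Agent.Lib.BC77.OddHallTwo

open MulAction

variable {G : Type*} [Group G] [Finite G]

namespace Ctx

variable {H : Subgroup G} {T : Sylow 2 G} (c : Ctx H T)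
include c

theorem eq_of_coset {x y : G} (hx : x ∈ (T : Subgroup G)) (hy : y ∈ (T : Subgroup G))
    (h : x⁻¹ * y ∈ H) : x = y :=
  inv_mul_eq_one.mp (c.eq_one_of_mem_both ((T : Subgroup G).mul_mem ((T : Subgroup G).inv_mem hx) hy) h)

theorem exists_lab (g : G) : ∃ x ∈ (T : Subgroup G), x⁻¹ * g ∈ H := by
  obtain ⟨x, hx, h, hh, rfl⟩ := c.exists_eq_mul g
  exact ⟨x, hx, by rwa [inv_mul_cancel_left]⟩

/-- A set of elements of `T` stable under the action of `H` on labels. -/
def Inv (_c : Ctx H T) (A : Finset G) : Prop :=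
  (∀ x ∈ A, x ∈ (T : Subgroup G)) ∧
    ∀ x ∈ A, ∀ y ∈ (T : Subgroup G), ∀ h ∈ H, y⁻¹ * h * x ∈ H → y ∈ A

open scoped Classical in
/-- The elements with an odd number of square roots in `A`. -/
noncomputable def sq (_c : Ctx H T) (A : Finset G) : Finset G :=
  (A.image fun x => x * x).filter fun y => Odd (A.filter fun x => x * x = y).card

open scoped Classical in
theorem mem_sq {A : Finset G} {y : G} :
    y ∈ c.sq A ↔ Odd (A.filter fun x => x * x = y).card := by
  simp only [sq, Finset.mem_filter, Finset.mem_image, and_iff_right_iff_imp]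
  intro h
  obtain ⟨x, hx⟩ := Finset.card_pos.mp h.pos
  exact ⟨x, (Finset.mem_filter.mp hx).1, (Finset.mem_filter.mp hx).2⟩

open scoped Classical in
theorem parity {A : Finset G} (hA : c.Inv A) {y : G} (hy : y ∈ (T : Subgroup G)) :
    Odd (A.filter fun x => x⁻¹ * y ∈ A).card ↔ Odd (A.filter fun x => x * x = y).card := by
  set P := A.filter fun x => x⁻¹ * y ∈ A with hP
  set R := A.filter fun x => x * x = y with hR
  have hsub : R ⊆ P := fun x hx => by
    obtain ⟨h1, h2⟩ := Finset.mem_filter.mp hx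
    exact Finset.mem_filter.mpr ⟨h1, by rwa [← h2, inv_mul_cancel_left]⟩
  have h0 : ∑ _x ∈ P \ R, (1 : ZMod 2) = 0 := by
    refine Finset.sum_involution (fun x _ => x⁻¹ * y) (fun x _ => by decide) (fun x hx _ h => ?_)
      (fun x hx => ?_) (fun x hx => ?_)
    · obtain ⟨h1, h2⟩ := Finset.mem_sdiff.mp hx
      exact h2 (Finset.mem_filter.mpr ⟨(Finset.mem_filter.mp h1).1,
        (inv_mul_eq_iff_eq_mul.mp h).symm⟩)
    · obtain ⟨h1, h2⟩ := Finset.mem_sdiff.mp hx
      obtain ⟨hxA, hxy⟩ := Finset.mem_filter.mp h1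
      have hback : (x⁻¹ * y)⁻¹ * y = x := by
        rw [mul_inv_rev, inv_inv, mul_assoc, (c.ab x (hA.1 x hxA) y hy).eq, inv_mul_cancel_left]
      refine Finset.mem_sdiff.mpr ⟨Finset.mem_filter.mpr ⟨hxy, by rw [hback]; exact hxA⟩,
        fun hr => h2 ?_⟩
      have e : x⁻¹ * y = x := by
        have e1 := inv_mul_eq_iff_eq_mul.mpr (Finset.mem_filter.mp hr).2.symm
        exact e1.symm.trans hback
      exact Finset.mem_filter.mpr ⟨hxA, (inv_mul_eq_iff_eq_mul.mp e).symm⟩
    · obtain ⟨h1, h2⟩ := Finset.mem_sdiff.mp hx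
      obtain ⟨hxA, -⟩ := Finset.mem_filter.mp h1
      show (x⁻¹ * y)⁻¹ * y = x
      rw [mul_inv_rev, inv_inv, mul_assoc, (c.ab x (hA.1 x hxA) y hy).eq, inv_mul_cancel_left]
  rw [Finset.sum_const, nsmul_one, ZMod.natCast_eq_zero_iff_even] at h0
  rw [← Finset.card_sdiff_add_card_eq_card hsub, Nat.odd_iff, Nat.odd_iff]
  rw [Nat.even_iff] at h0
  omega

open scoped Classical in
theorem pairs_le {A : Finset G} (hA : c.Inv A) {y y' h : G} (hy : y ∈ (T : Subgroup G))
    (hy' : y' ∈ (T : Subgroup G)) (hh : h ∈ H) (he : y'⁻¹ * h * y ∈ H) :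
    (A.filter fun x => x⁻¹ * y ∈ A).card ≤ (A.filter fun x => x⁻¹ * y' ∈ A).card := by
  choose lab hlabT hlab using c.exists_lab
  refine Finset.card_le_card_of_injOn (fun x => lab (h * x)) ?_ ?_
  · intro x hx
    obtain ⟨hxA, hxy⟩ := Finset.mem_filter.mp hx
    have hh' : (lab (h * x))⁻¹ * h * x ∈ H := by rw [mul_assoc]; exact hlab _
    refine Finset.mem_filter.mpr ⟨hA.2 x hxA _ (hlabT _) h hh hh',
      hA.2 _ hxy _ ((T : Subgroup G).mul_mem ((T : Subgroup G).inv_mem (hlabT _)) hy') _ hh' ?_⟩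
    convert he using 1
    group
  · intro x hx x' hx' e
    refine c.eq_of_coset (hA.1 x (Finset.mem_filter.mp hx).1) (hA.1 x' (Finset.mem_filter.mp hx').1) ?_
    have h1 := H.mul_mem (H.inv_mem (hlab (h * x))) (hlab (h * x'))
    have e' : lab (h * x) = lab (h * x') := e
    rw [e'] at h1
    convert h1 using 1
    group

open scoped Classical in
theorem inv_sq {A : Finset G} (hA : c.Inv A) : c.Inv (c.sq A) := by
  have hmem : ∀ x ∈ c.sq A, x ∈ (T : Subgroup G) := by
    intro x hx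
    obtain ⟨z, hz, rfl⟩ := Finset.mem_image.mp (Finset.mem_filter.mp hx).1
    exact (T : Subgroup G).mul_mem (hA.1 z hz) (hA.1 z hz)
  refine ⟨hmem, fun y hy y' hy' h hh he => ?_⟩
  have h2 : y⁻¹ * h⁻¹ * y' ∈ H := by convert H.inv_mem he using 1; group
  have hyT := hmem y hy
  rw [c.mem_sq, ← c.parity hA hy']
  rw [c.mem_sq, ← c.parity hA hyT] at hy
  rwa [le_antisymm (c.pairs_le hA hy' hyT (H.inv_mem hh) h2) (c.pairs_le hA hyT hy' hh he)]

open scoped Classical in
theorem odd_sq {A : Finset G} (hodd : Odd A.card) : Odd (c.sq A).card := by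
  have h1 : (A.card : ZMod 2) = ∑ y ∈ A.image (fun x => x * x),
      (((A.filter fun x => x * x = y).card : ℕ) : ZMod 2) := by
    rw [Finset.card_eq_sum_card_fiberwise (f := fun x => x * x)
      (t := A.image fun x => x * x) (fun x hx => Finset.mem_image_of_mem _ hx)]
    push_cast
    rfl
  have h2 : ((c.sq A).card : ZMod 2) = A.card := by
    rw [h1, sq, Finset.card_filter]
    push_cast
    refine Finset.sum_congr rfl fun y _ => ?_
    split_ifs with h
    · exact (ZMod.natCast_eq_one_iff_odd.mpr h).symm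
    · exact (ZMod.natCast_eq_zero_iff_even.mpr (Nat.not_odd_iff_even.mp h)).symm
  exact ZMod.natCast_eq_one_iff_odd.mp (h2.trans (ZMod.natCast_eq_one_iff_odd.mpr hodd))

/-- Labels that are squares generate no proper block. -/
theorem not_all_squares {S : Set G} (hS : ∀ x ∈ S, x ∈ (T : Subgroup G))
    (hSi : ∀ x ∈ S, ∀ h ∈ H, ∃ y ∈ S, y⁻¹ * h * x ∈ H) {t : G} (ht : t ∈ S) (ht1 : t ≠ 1) :
    ∃ x ∈ S, ∀ z ∈ (T : Subgroup G), z * z ≠ x := by
  by_contra hne
  push Not at hne
  set U := Subgroup.closure S with hU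
  have hUT : U ≤ (T : Subgroup G) := (Subgroup.closure_le _).mpr hS
  -- squares form a proper subgroup
  have hUne : U ≠ (T : Subgroup G) := by
    intro heq
    let f : ↥(T : Subgroup G) → ↥(T : Subgroup G) := fun z => z * z
    let Sq : Subgroup G :=
      { carrier := {x | ∃ z ∈ (T : Subgroup G), z * z = x}
        one_mem' := ⟨1, (T : Subgroup G).one_mem, one_mul 1⟩
        mul_mem' := by
          rintro _ _ ⟨z, hz, rfl⟩ ⟨w, hw, rfl⟩
          exact ⟨z * w, (T : Subgroup G).mul_mem hz hw,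
            by rw [mul_assoc, ← mul_assoc w z w, (c.ab w hw z hz).eq]; group⟩
        inv_mem' := by
          rintro _ ⟨z, hz, rfl⟩
          exact ⟨z⁻¹, (T : Subgroup G).inv_mem hz, by group⟩ }
    have hle : U ≤ Sq := (Subgroup.closure_le _).mpr fun x hx => hne x hx
    have hsurj : Function.Surjective f := fun x => by
      obtain ⟨z, hz, e⟩ := hle (heq.symm ▸ x.2 : (x : G) ∈ U)
      exact ⟨⟨z, hz⟩, Subtype.ext e⟩
    obtain ⟨s, hs, hs2, hs1⟩ := c.exists_involution c.T_ne_bot le_rfl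
    have := Finite.injective_iff_surjective.mpr hsurj
      (a₁ := ⟨s, hs⟩) (a₂ := 1) (Subtype.ext (by simpa [f] using hs2))
    exact hs1 (congrArg Subtype.val this)
  have key : ∀ u ∈ U, ∀ h ∈ H, ∃ u' ∈ U, u'⁻¹ * h * u ∈ H := by
    have hstep : ∀ u : G, (∀ h ∈ H, ∃ u' ∈ U, u'⁻¹ * h * u ∈ H) → ∀ x ∈ S,
        ∀ h ∈ H, ∃ u' ∈ U, u'⁻¹ * h * (u * x) ∈ H := by
      intro u hu x hx h hh
      obtain ⟨u', hu', hh'⟩ := hu h hh
      obtain ⟨x', hx', hx''⟩ := hSi x hx _ hh'
      refine ⟨u' * x', U.mul_mem hu' (Subgroup.subset_closure hx'), ?_⟩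
      convert hx'' using 1
      group
    have hpow : ∀ (n : ℕ) (u : G), (∀ h ∈ H, ∃ u' ∈ U, u'⁻¹ * h * u ∈ H) → ∀ x ∈ S,
        ∀ h ∈ H, ∃ u' ∈ U, u'⁻¹ * h * (u * x ^ n) ∈ H := by
      intro n
      induction n with
      | zero => intro u hu x _; simpa using hu
      | succ n ih =>
        intro u hu x hx
        rw [pow_succ, ← mul_assoc]
        exact hstep _ (ih u hu x hx) x hx
    intro u hu
    induction hu using Subgroup.closure_induction_right with
    | one => exact fun h hh => ⟨1, U.one_mem, by simpa using hh⟩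
    | mul_right u _ x hx hu => exact hstep u hu x hx
    | mul_inv_cancel u _ x hx hu =>
      have e : x⁻¹ = x ^ (orderOf x - 1) := by
        refine inv_eq_of_mul_eq_one_right ?_
        rw [← pow_succ', Nat.sub_add_cancel (orderOf_pos x), pow_orderOf_eq_one]
      rw [e]
      exact hpow _ u hu x hx
  let L : Subgroup G :=
    { carrier := {g | ∃ u ∈ U, u⁻¹ * g ∈ H}
      one_mem' := ⟨1, U.one_mem, by simp⟩
      mul_mem' := by
        rintro a b ⟨u, hu, ha⟩ ⟨v, hv, hb⟩
        obtain ⟨w, hw, hw'⟩ := key v hv _ ha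
        refine ⟨u * w, U.mul_mem hu hw, ?_⟩
        convert H.mul_mem hw' hb using 1
        group
      inv_mem' := by
        rintro a ⟨u, hu, ha⟩
        obtain ⟨w, hw, hw'⟩ := key u⁻¹ (U.inv_mem hu) _ (H.inv_mem ha)
        refine ⟨w, hw, ?_⟩
        convert hw' using 1
        group }
  have hHL : H ≤ L := fun h hh => ⟨1, U.one_mem, by simpa using hh⟩
  have hLne : L ≠ ⊤ := by
    intro h
    refine hUne (le_antisymm hUT fun z hz => ?_)
    obtain ⟨u, hu, hz'⟩ : z ∈ L := h ▸ Subgroup.mem_top z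
    rwa [← c.eq_of_coset (hUT hu) hz hz']
  have htL : t ∈ L := ⟨t, Subgroup.subset_closure ht, by simp⟩
  rw [c.eq_of_H_le hLne hHL] at htL
  exact ht1 (c.eq_one_of_mem_both (hS t ht) htL)

theorem no_odd_invariant : ∀ (j : ℕ) (A : Finset G), c.Inv A → Odd A.card →
    (∀ x ∈ A, x * x ≠ 1) → (∀ x ∈ A, x ^ 2 ^ j = 1) → False := by
  intro j
  induction j with
  | zero =>
    intro A _ hodd hno hj
    obtain ⟨x, hx⟩ := Finset.card_pos.mp hodd.pos
    have := hj x hx
    rw [pow_zero, pow_one] at this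
    exact hno x hx (by rw [this, one_mul])
  | succ j ih =>
    intro A hA hodd hno hj
    refine ih (c.sq A) (c.inv_sq hA) (c.odd_sq hodd) ?_ ?_
    · intro y hy hy2
      classical
      obtain ⟨z, hz, rfl⟩ := Finset.mem_image.mp (Finset.mem_filter.mp hy).1
      by_cases hy1 : z * z = 1
      · exact hno z hz hy1
      -- the suborbit of the involutions consists of squares
      set t := z * z with ht
      have htT : t ∈ (T : Subgroup G) := (c.inv_sq hA).1 _ hy
      let S : Set G := {x | x ∈ (T : Subgroup G) ∧ ∃ h ∈ H, x⁻¹ * h * t ∈ H}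
      obtain ⟨x, ⟨hxT, h, hh, hx⟩, hx'⟩ := c.not_all_squares (S := S) (fun x hx => hx.1)
        (fun x ⟨hxT, k, hk, hx⟩ h hh => by
          obtain ⟨y, hy, hy'⟩ := c.exists_lab (h * x)
          rw [← mul_assoc] at hy'
          refine ⟨y, ⟨hy, _, H.mul_mem hh hk, ?_⟩, hy'⟩
          convert H.mul_mem hy' hx using 1
          group)
        (t := t) ⟨htT, 1, H.one_mem, by simp⟩ hy1
      obtain ⟨w, hw, e⟩ := Finset.mem_image.mp
        (Finset.mem_filter.mp ((c.inv_sq hA).2 _ hy x hxT h hh hx)).1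
      exact hx' w (hA.1 w hw) e
    · intro y hy
      classical
      obtain ⟨z, hz, rfl⟩ := Finset.mem_image.mp (Finset.mem_filter.mp hy).1
      rw [← pow_two, ← pow_mul, ← pow_succ']
      exact hj z hz

/-- `H` is transitive on the nontrivial labels. -/
theorem transitive_labels {x y : G} (hx : x ∈ (T : Subgroup G)) (hx1 : x ≠ 1)
    (hy : y ∈ (T : Subgroup G)) (hy1 : y ≠ 1) : ∃ h ∈ H, y⁻¹ * h * x ∈ H := by
  obtain ⟨t, ht, ht2, ht1⟩ := c.exists_involution c.T_ne_bot le_rfl
  suffices key : ∀ x ∈ (T : Subgroup G), x ≠ 1 → ∃ h ∈ H, t⁻¹ * h * x ∈ H by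
    obtain ⟨a, ha, ha'⟩ := key x hx hx1
    obtain ⟨b, hb, hb'⟩ := key y hy hy1
    refine ⟨b⁻¹ * (t * (t⁻¹ * a)), ?_, ?_⟩
    · rw [mul_inv_cancel_left]
      exact H.mul_mem (H.inv_mem hb) ha
    · convert H.mul_mem (H.inv_mem hb') ha' using 1
      group
  intro x hx hx1
  classical
  haveI := Fintype.ofFinite G
  set A : Finset G := Finset.univ.filter fun z =>
    z ∈ (T : Subgroup G) ∧ ∃ h ∈ H, z⁻¹ * h * x ∈ H with hA
  have hInv : c.Inv A := by
    refine ⟨fun z hz => (Finset.mem_filter.mp hz).2.1, fun z hz y hy h hh he => ?_⟩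
    obtain ⟨-, -, k, hk, hz'⟩ := Finset.mem_filter.mp hz
    refine Finset.mem_filter.mpr ⟨Finset.mem_univ _, hy, h * k, H.mul_mem hh hk, ?_⟩
    convert H.mul_mem he hz' using 1
    group
  have hcard : Odd A.card := by
    have e : A.card = Nat.card (orbit H ((x : G) : G ⧸ H)) := by
      rw [← Nat.card_eq_finsetCard]
      refine Nat.card_eq_of_bijective (fun z => ⟨((z : G) : G ⧸ H), ?_⟩) ⟨?_, ?_⟩
      · obtain ⟨-, -, k, hk, hz'⟩ := Finset.mem_filter.mp z.2
        refine ⟨⟨k, hk⟩, ?_⟩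
        show ((k * x : G) : G ⧸ H) = ((z : G) : G ⧸ H)
        rw [QuotientGroup.eq]
        convert H.inv_mem hz' using 1
        group
      · intro z w e
        exact Subtype.ext (c.eq_of_coset (Finset.mem_filter.mp z.2).2.1
          (Finset.mem_filter.mp w.2).2.1 (QuotientGroup.eq.mp (congrArg Subtype.val e)))
      · rintro ⟨_, ⟨k, hk⟩, rfl⟩
        obtain ⟨z, hz, hz'⟩ := c.exists_lab (k * x)
        refine ⟨⟨z, Finset.mem_filter.mpr ⟨Finset.mem_univ _, hz, k, hk, by rw [mul_assoc]; exact hz'⟩⟩,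
          Subtype.ext ?_⟩
        show ((z : G) : G ⧸ H) = ((k * x : G) : G ⧸ H)
        rw [QuotientGroup.eq]
        exact hz'
    rw [e]
    refine c.odd.of_dvd_nat ?_
    rw [Nat.card_coe_set_eq, ← index_stabilizer]
    exact Subgroup.index_dvd_card _
  by_contra hne
  obtain ⟨j, hj⟩ := IsPGroup.iff_card.mp T.2
  refine c.no_odd_invariant j A hInv hcard (fun z hz hz2 => hne ?_) fun z hz => ?_
  · obtain ⟨-, hzT, k, hk, hz'⟩ := Finset.mem_filter.mp hz
    have hz1 : z ≠ 1 := fun h => by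
      rw [h, inv_one, one_mul] at hz'
      exact hx1 (c.eq_one_of_mem_both hx (by simpa using H.mul_mem (H.inv_mem hk) hz'))
    obtain ⟨d, hd, -, e⟩ := c.involutions_fused hzT hz2 hz1 ht ht2 ht1
    refine ⟨d * k, H.mul_mem hd hk, ?_⟩
    convert H.mul_mem hd hz' using 1
    rw [← e]
    group
  · have := pow_card_eq_one' (x := (⟨z, (Finset.mem_filter.mp hz).2.1⟩ : (T : Subgroup G)))
    rw [hj] at this
    exact congrArg Subtype.val this

end Ctx

end Cfsg.Agent.Lib.BC77.OddHallTwo
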