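/-
Counting involutions interchanging two points: no group satisfies `Ctx`.
-/
import Cfsg.Agent.Lib.BC77.OddHallTwo.Suborbit
import Cfsg.Agent.Lib.BC77.DPiHom.Control

set_option autoImplicit false
set_option linter.style.haveILetI false

namespace Cfsg.Agent.Lib.BC77.OddHallTwo

open MulAction

variable {G : Type*} [Group G] [Finite G]

theorem pair_conj {t v : G} (ht : t * t = 1) (hv : v * v = 1) (k : ℕ) :
    t * (t * v) ^ k * t⁻¹ = ((t * v) ^ k)⁻¹ ∧ v * (t * v) ^ k * v⁻¹ = ((t * v) ^ k)⁻¹ := by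
  have hti : t⁻¹ = t := inv_eq_of_mul_eq_one_right ht
  have hvi : v⁻¹ = v := inv_eq_of_mul_eq_one_right hv
  constructor <;> rw [← conj_pow, ← inv_pow] <;> congr 1
  · rw [mul_inv_rev, hvi, hti, ← mul_assoc t t v, ht, one_mul]
  · calc v * (t * v) * v⁻¹ = v * t := by group
      _ = (t * v)⁻¹ := by rw [mul_inv_rev, hvi, hti]

namespace Ctx

variable {H : Subgroup G} {T : Sylow 2 G} (c : Ctx H T)
include c

/-- `G` is doubly transitive on the cosets of `H`. -/
theorem two_trans {a b a' b' : G ⧸ H} (hab : a ≠ b) (hab' : a' ≠ b') :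
    ∃ g : G, g • a = a' ∧ g • b = b' := by
  have key : ∀ a b : G ⧸ H, a ≠ b → ∃ g : G, ∃ x ∈ (T : Subgroup G), x ≠ 1 ∧
      g • a = ((1 : G) : G ⧸ H) ∧ g • b = ((x : G) : G ⧸ H) := by
    intro a b hne
    induction a using QuotientGroup.induction_on with
    | _ g =>
    induction b using QuotientGroup.induction_on with
    | _ k =>
    obtain ⟨x, hx, hx'⟩ := c.exists_lab (g⁻¹ * k)
    refine ⟨g⁻¹, x, hx, ?_, ?_, ?_⟩
    · rintro rfl
      exact hne (QuotientGroup.eq.mpr (by simpa using hx'))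
    · show ((g⁻¹ * g : G) : G ⧸ H) = _
      rw [inv_mul_cancel]
    · show ((g⁻¹ * k : G) : G ⧸ H) = _
      exact (QuotientGroup.eq.mpr hx').symm
  obtain ⟨g, x, hx, hx1, ha, hb⟩ := key a b hab
  obtain ⟨g', y, hy, hy1, ha', hb'⟩ := key a' b' hab'
  obtain ⟨h, hh, he⟩ := c.transitive_labels hx hx1 hy hy1
  refine ⟨g'⁻¹ * h * g, ?_, ?_⟩
  · rw [mul_smul, mul_smul, ha, inv_smul_eq_iff, ha']
    show ((h * 1 : G) : G ⧸ H) = _
    rw [mul_one, QuotientGroup.eq]
    simpa using hh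
  · rw [mul_smul, mul_smul, hb, inv_smul_eq_iff, hb']
    show ((h * x : G) : G ⧸ H) = _
    rw [eq_comm, QuotientGroup.eq, ← mul_assoc]
    exact he

theorem odd_orderOf_of_fix {g : G} {p : G ⧸ H} (h : g • p = p) : Odd (orderOf g) := by
  induction p using QuotientGroup.induction_on with
  | _ k =>
  have h1 : k⁻¹ * g * k ∈ H := by
    have h' : ((g * k : G) : G ⧸ H) = (k : G ⧸ H) := h
    rw [eq_comm, QuotientGroup.eq, ← mul_assoc] at h'
    exact h'
  have e : orderOf g = orderOf (k⁻¹ * g * k) := by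
    have := (MulAut.conj k⁻¹).orderOf_eq g
    rw [MulAut.conj_apply, inv_inv] at this
    exact this.symm
  rw [e, show orderOf (k⁻¹ * g * k) = orderOf (⟨k⁻¹ * g * k, h1⟩ : H) from (Subgroup.orderOf_mk _ h1).symm]
  exact c.odd.of_dvd_nat (orderOf_dvd_natCard _)

theorem involution_moves {u : G} (h2 : u * u = 1) (h1 : u ≠ 1) (p : G ⧸ H) : u • p ≠ p :=
  fun h => h1 (eq_one_of_twoEl_pow_odd ⟨1, by rw [pow_one, pow_two, h2]⟩ (c.odd_orderOf_of_fix h)
    (pow_orderOf_eq_one u))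

/-- A `p`-subgroup centralised by no involution fixes at most two points. -/
theorem no_three_fixed {p : ℕ} [Fact p.Prime] (hp : p ≠ 2) {Q₀ : Subgroup G} (hQ₀ : IsPGroup p Q₀)
    (hC₀ : ∀ x : G, (∀ q ∈ Q₀, Commute x q) → x * x = 1 → x = 1) {a₀ b₀ d₀ : G ⧸ H}
    (hab₀ : a₀ ≠ b₀) (had₀ : a₀ ≠ d₀) (hbd₀ : b₀ ≠ d₀)
    (ha₀ : ∀ q ∈ Q₀, q • a₀ = a₀) (hb₀ : ∀ q ∈ Q₀, q • b₀ = b₀) (hd₀ : ∀ q ∈ Q₀, q • d₀ = d₀) :
    False := by
  classical
  haveI := Fintype.ofFinite G
  haveI := Fintype.ofFinite (G ⧸ H)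
  let P : Subgroup G → Prop := fun Q => IsPGroup p Q ∧ Q₀ ≤ Q ∧ ∃ a b d : G ⧸ H,
    a ≠ b ∧ a ≠ d ∧ b ≠ d ∧ ∀ q ∈ Q, q • a = a ∧ q • b = b ∧ q • d = d
  obtain ⟨Q, hQ⟩ := (Set.toFinite {Q | P Q}).exists_maximal
    ⟨Q₀, hQ₀, le_rfl, a₀, b₀, d₀, hab₀, had₀, hbd₀,
      fun q hq => ⟨ha₀ q hq, hb₀ q hq, hd₀ q hq⟩⟩
  obtain ⟨⟨hQp, hQ₀Q, a₁, b₁, d₁, hab₁, had₁, hbd₁, hfix₁⟩, hmax⟩ := hQ
  have hC : ∀ x : G, (∀ q ∈ Q, Commute x q) → x * x = 1 → x = 1 :=
    fun x hx => hC₀ x fun q hq => hx q (hQ₀Q hq)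
  let Fp : G ⧸ H → Prop := fun c => ∀ q ∈ Q, q • c = c
  have ha₁ : Fp a₁ := fun q hq => (hfix₁ q hq).1
  have hb₁ : Fp b₁ := fun q hq => (hfix₁ q hq).2.1
  have hd₁ : Fp d₁ := fun q hq => (hfix₁ q hq).2.2
  set N := Subgroup.normalizer (Q : Set G) with hN
  have hNF : ∀ n ∈ N, ∀ x, Fp x → Fp (n • x) := by
    intro n hn x hx q hq
    have h1 : n⁻¹ * q * n⁻¹⁻¹ ∈ Q := (Subgroup.mem_normalizer_iff.mp (N.inv_mem hn) q).mp hq
    have h2 := congrArg (fun z => n • z) (hx _ h1)
    simp only [← mul_smul] at h2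
    rwa [show n * (n⁻¹ * q * n⁻¹⁻¹) = q * n by group, mul_smul] at h2
  let X : G ⧸ H → G ⧸ H → Subgroup G := fun a b => stabilizer G a ⊓ stabilizer G b
  have hQX : ∀ a b, Fp a → Fp b → Q ≤ X a b := fun a b ha hb q hq => ⟨ha q hq, hb q hq⟩
  have hXconj : ∀ (g : G) (a b : G ⧸ H),
      (X a b).map (MulAut.conj g).toMonoidHom = X (g • a) (g • b) := by
    intro g a b
    show (stabilizer G a ⊓ stabilizer G b).map _ = _
    rw [Subgroup.map_inf_eq _ _ _ (MulAut.conj g).injective,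
      ← stabilizer_smul_eq_stabilizer_map_conj, ← stabilizer_smul_eq_stabilizer_map_conj]
  have hXcard : ∀ a b a' b' : G ⧸ H, a ≠ b → a' ≠ b' →
      Nat.card (X a b) = Nat.card (X a' b') := by
    intro a b a' b' h h'
    obtain ⟨g, hga, hgb⟩ := c.two_trans h h'
    rw [← hga, ← hgb, ← hXconj,
      Subgroup.card_map_of_injective (K := X a b) (MulAut.conj g).injective]
  -- the stabiliser in `N` of a point of `F` is transitive on the others
  have htransA : ∀ a b b' : G ⧸ H, Fp a → Fp b → Fp b' → a ≠ b → a ≠ b' →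
      ∃ n ∈ N, n • a = a ∧ n • b = b' := by
    intro a b b' ha hb hb' hab hab'
    by_cases hsyl : Nat.card Q = p ^ (Nat.card (X a₁ b₁)).factorization p
    · obtain ⟨h, hha, hhb⟩ := c.two_trans hab hab'
      set Q' := Q.map (MulAut.conj h).toMonoidHom with hQ'
      have hQ'X : Q' ≤ X a b' := by
        rw [← hha, ← hhb, ← hXconj]
        exact Subgroup.map_mono (hQX a b ha hb)
      have hQ'card : Nat.card Q' = Nat.card Q :=
        Subgroup.card_map_of_injective (MulAut.conj h).injective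
      have hcard : ∀ R : Subgroup G, R ≤ X a b' → Nat.card R = Nat.card Q →
          Nat.card (R.subgroupOf (X a b')) = p ^ (Nat.card (X a b')).factorization p := by
        intro R hR he
        rw [Nat.card_congr (Subgroup.subgroupOfEquivOfLe hR).toEquiv, he, hsyl,
          hXcard a₁ b₁ a b' hab₁ hab']
      let S₁ : Sylow p (X a b') := Sylow.ofCard _ (hcard Q' hQ'X hQ'card)
      let S₂ : Sylow p (X a b') := Sylow.ofCard _ (hcard Q (hQX a b' ha hb') rfl)
      obtain ⟨k, hk⟩ := MulAction.exists_smul_eq (X a b') S₁ S₂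
      have hkQ : ∀ q ∈ Q, (k : G) * h * q * ((k : G) * h)⁻¹ ∈ Q := by
        intro q hq
        have h1 : (⟨h * q * h⁻¹, hQ'X ⟨q, hq, rfl⟩⟩ : X a b') ∈ (S₁ : Subgroup (X a b')) :=
          Subgroup.mem_subgroupOf.mpr ⟨q, hq, rfl⟩
        have h2 : k * (⟨h * q * h⁻¹, hQ'X ⟨q, hq, rfl⟩⟩ : X a b') * k⁻¹
            ∈ (k • S₁ : Sylow p (X a b')) := by
          rw [← SetLike.mem_coe, Sylow.coe_smul]
          exact ⟨_, h1, rfl⟩
        rw [hk] at h2
        have h3 : ((k * (⟨h * q * h⁻¹, hQ'X ⟨q, hq, rfl⟩⟩ : X a b') * k⁻¹ : X a b') : G) ∈ Q :=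
          Subgroup.mem_subgroupOf.mp h2
        convert h3 using 1
        simp [mul_assoc]
      refine ⟨(k : G) * h, Subgroup.mem_normalizer_fintype hkQ, ?_, ?_⟩
      · rw [mul_smul, hha]; exact k.2.1
      · rw [mul_smul, hhb]; exact k.2.2
    · -- every pair has a `p`-element of `N` fixing only that pair
      have hbig : ∀ e : G ⧸ H, Fp e → a ≠ e → ∃ R : Subgroup G, IsPGroup p R ∧ R ≤ N ∧
          (∀ r ∈ R, r • a = a ∧ r • e = e) ∧
          ∀ x, Fp x → (∀ r ∈ R, r • x = x) → x = a ∨ x = e := by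
        intro e he hae
        obtain ⟨S, hS⟩ :=
          (hQp.comap_of_injective (X a e).subtype (X a e).subtype_injective).exists_le_sylow
        have hlt : Q < (S : Subgroup (X a e)).map (X a e).subtype := by
          refine lt_of_le_of_ne (fun q hq => ⟨⟨q, hQX a e ha he hq⟩, hS hq, rfl⟩) fun h => hsyl ?_
          rw [hXcard a₁ b₁ a e hab₁ hae, ← S.card_eq_multiplicity, h,
            Subgroup.card_map_of_injective (X a e).subtype_injective]
        obtain ⟨R, hQR, hRS, hRN⟩ := DPiHom.exists_bigger (S.2.map _) hlt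
        have hRX : ∀ r ∈ R, r • a = a ∧ r • e = e := fun r hr => by
          obtain ⟨y, -, rfl⟩ := Subgroup.mem_map.mp (hRS hr)
          exact ⟨y.2.1, y.2.2⟩
        have hRp : IsPGroup p R := (S.2.map _).to_le hRS
        refine ⟨R, hRp, hRN, hRX, fun x hx hxR => ?_⟩
        by_contra hne
        push Not at hne
        refine hQR.not_ge (hmax ⟨hRp, hQ₀Q.trans hQR.le, a, e, x, hae, hne.1.symm, hne.2.symm,
          fun r hr => ⟨(hRX r hr).1, (hRX r hr).2, hxR r hr⟩⟩ hQR.le)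
      by_contra hne
      push Not at hne
      set O : Set (G ⧸ H) := {x | ∃ n ∈ N, n • a = a ∧ n • b = x} with hO
      have hOF : ∀ x ∈ O, Fp x ∧ x ≠ a := by
        rintro x ⟨n, hn, hna, rfl⟩
        exact ⟨hNF n hn b hb, fun h => hab (smul_left_cancel n (hna.trans h.symm))⟩
      have hmod : ∀ e : G ⧸ H, Fp e → a ≠ e →
          Nat.card O ≡ (if e ∈ O then 1 else 0) [MOD p] := by
        intro e he hae
        obtain ⟨R, hRp, hRN, hRX, honly⟩ := hbig e he hae
        let Osub : SubMulAction R (G ⧸ H) :=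
          { carrier := O
            smul_mem' := by
              rintro ⟨r, hr⟩ _ ⟨n, hn, hna, rfl⟩
              exact ⟨r * n, N.mul_mem (hRN hr) hn, by rw [mul_smul, hna, (hRX r hr).1],
                mul_smul r n b⟩ }
        have h := hRp.card_modEq_card_fixedPoints Osub
        have hcard : Nat.card (fixedPoints R Osub) = if e ∈ O then 1 else 0 := by
          have heq : ∀ z : fixedPoints R Osub, (z : Osub).1 = e := by
            rintro ⟨⟨x, hx⟩, hfx⟩
            have hfx' : ∀ r ∈ R, r • x = x := fun r hr => congrArg Subtype.val (hfx ⟨r, hr⟩)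
            exact ((honly x (hOF x hx).1 hfx').resolve_left (hOF x hx).2)
          split_ifs with hmem
          · refine Nat.card_eq_one_iff_exists.mpr ⟨⟨⟨e, hmem⟩, fun r => Subtype.ext
              (hRX r.1 r.2).2⟩, fun z => Subtype.ext (Subtype.ext (heq z))⟩
          · exact Nat.card_eq_zero.mpr (Or.inl ⟨fun z => hmem (heq z ▸ (z : Osub).2)⟩)
        rw [hcard] at h
        exact h
      have h1 := hmod b hb hab
      rw [if_pos ⟨1, N.one_mem, one_smul _ _, one_smul _ _⟩] at h1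
      have h2 := hmod b' hb' hab'
      rw [if_neg (fun ⟨n, hn, hna, hnb⟩ => hne n hn hna hnb)] at h2
      have := (h1.symm.trans h2)
      rw [Nat.modEq_zero_iff_dvd, Nat.dvd_one] at this
      exact (Fact.out : p.Prime).one_lt.ne' this
  have hthird : ∀ a b : G ⧸ H, ∃ x, Fp x ∧ x ≠ a ∧ x ≠ b := by
    intro a b
    by_contra h
    push Not at h
    have h1 := h a₁ ha₁
    have h2 := h b₁ hb₁
    have h3 := h d₁ hd₁
    by_cases e1 : a₁ = a
    · have e2 := h2 (e1 ▸ hab₁.symm)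
      exact hbd₁ (e2.trans (h3 (e1 ▸ had₁.symm)).symm)
    · have e1' := h1 e1
      by_cases e2 : b₁ = a
      · exact had₁ (e1'.trans (h3 (e2 ▸ hbd₁.symm)).symm)
      · exact hab₁ (e1'.trans (h2 e2).symm)
  have htrans : ∀ a b : G ⧸ H, Fp a → Fp b → ∃ n ∈ N, n • a = b := by
    intro a b ha hb
    obtain ⟨e, he, hea, heb⟩ := hthird a b
    obtain ⟨n, hn, -, hnb⟩ := htransA e a b he ha hb hea heb
    exact ⟨n, hn, hnb⟩
  -- an involution in `N`
  obtain ⟨u, huN, hu2, hu1⟩ : ∃ u ∈ N, u * u = 1 ∧ u ≠ 1 := by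
    obtain ⟨n₁, hn₁, hn₁a⟩ := htrans a₁ b₁ ha₁ hb₁
    have hne : n₁ • b₁ ≠ b₁ := fun h =>
      hab₁ (smul_left_cancel n₁ (hn₁a.trans h.symm))
    obtain ⟨n₂, hn₂, hn₂b, hn₂a⟩ :=
      htransA b₁ (n₁ • b₁) a₁ hb₁ (hNF n₁ hn₁ b₁ hb₁) ha₁ hne.symm hab₁.symm
    set g := n₂ * n₁ with hg
    have hga : g • a₁ = b₁ := by rw [hg, mul_smul, hn₁a, hn₂b]
    have hgb : g • b₁ = a₁ := by rw [hg, mul_smul, hn₂a]
    have hgg : (g * g) • a₁ = a₁ := by rw [mul_smul, hga, hgb]
    have heven : Even (orderOf g) := by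
      by_contra hodd
      obtain ⟨k, hk⟩ := Nat.not_even_iff_odd.mp hodd
      have hgk : g = (g * g) ^ (k + 1) := by
        rw [← pow_two, ← pow_mul, show 2 * (k + 1) = orderOf g + 1 by omega, pow_succ,
          pow_orderOf_eq_one, one_mul]
      have hst : g * g ∈ stabilizer G a₁ := hgg
      have := (stabilizer G a₁).pow_mem hst (k + 1)
      rw [← hgk, mem_stabilizer_iff, hga] at this
      exact hab₁ this.symm
    obtain ⟨k, hk⟩ := heven
    have hpos := orderOf_pos g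
    refine ⟨g ^ k, N.pow_mem (N.mul_mem hn₂ hn₁) k, by rw [← pow_add, ← hk, pow_orderOf_eq_one],
      fun h => ?_⟩
    have := Nat.le_of_dvd (by omega) (orderOf_dvd_of_pow_eq_one h)
    omega
  -- commuting involutions of `N` are equal
  have huniq : ∀ x ∈ N, ∀ y ∈ N, x * x = 1 → x ≠ 1 → y * y = 1 → y ≠ 1 → Commute x y → x = y := by
    intro x hx y hy hx2 hx1 hy2 hy1 hxy
    by_contra hne
    have hodd : Odd (Nat.card Q) := by
      obtain ⟨n, hn⟩ := IsPGroup.iff_card.mp hQp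
      rw [hn]
      exact ((Fact.out : p.Prime).odd_of_ne_two hp).pow
    refine hx1 (hC x (fun q hq => (c.four_centralize hx2 hx1 hy2 hy1 (fun h => hne ?_) hxy.eq hodd
      (fun q hq => (Subgroup.mem_normalizer_iff.mp hx q).mp hq)
      (fun q hq => (Subgroup.mem_normalizer_iff.mp hy q).mp hq) hq).symm) hx2)
    rw [← mul_one x, ← hy2, ← mul_assoc, h, one_mul]
  obtain ⟨W⟩ : Nonempty (Sylow 2 N) := inferInstance
  have hWab : ∀ x ∈ (W : Subgroup N), ∀ y ∈ (W : Subgroup N), Commute x y := by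
    intro x hx y hy
    exact Subtype.ext (c.commute_of_twoGroup (W.2.map N.subtype)
      (Subgroup.mem_map_of_mem N.subtype hx) (Subgroup.mem_map_of_mem N.subtype hy)).eq
  have hle : Subgroup.normalizer ((W : Subgroup N) : Set N)
      ≤ Subgroup.centralizer ((W : Subgroup N) : Set N) := by
    intro g hg
    rw [Subgroup.mem_centralizer_iff]
    intro x hx
    refine (normalizer_commute W hWab hg (fun y hy hy2 => ?_) hx).eq.symm
    by_cases hy1 : y = 1
    · rw [hy1]; exact Commute.one_right g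
    have h1 : g * y * g⁻¹ ∈ (W : Subgroup N) := (Subgroup.mem_normalizer_iff.mp hg y).mp hy
    have h2 : g * y * g⁻¹ * (g * y * g⁻¹) = 1 := by
      rw [show g * y * g⁻¹ * (g * y * g⁻¹) = g * (y * y) * g⁻¹ by group, hy2, mul_one,
        mul_inv_cancel]
    have h3 : g * y * g⁻¹ ≠ 1 := fun h => hy1 (by rw [mul_inv_eq_one, mul_eq_left] at h; exact h)
    have e : ((g * y * g⁻¹ : N) : G) = (y : G) :=
      huniq _ (g * y * g⁻¹).2 _ y.2 (congrArg Subtype.val h2) (fun h => h3 (Subtype.ext h))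
        (congrArg Subtype.val hy2) (fun h => hy1 (Subtype.ext h))
        (congrArg Subtype.val (hWab _ h1 _ hy).eq)
    have e' : g * y * g⁻¹ = y := Subtype.ext e
    rw [mul_inv_eq_iff_eq_mul] at e'
    exact e'
  obtain ⟨K₀, hK₀⟩ : ∃ K₀ : Subgroup N, K₀ = (MonoidHom.transferSylow W hle).ker := ⟨_, rfl⟩
  haveI hK₀n : K₀.Normal := hK₀ ▸ MonoidHom.normal_ker (MonoidHom.transferSylow W hle)
  set K := K₀.map N.subtype with hK
  have hKodd : Odd (Nat.card K) := by
    rw [hK, Subgroup.card_map_of_injective N.subtype_injective, hK₀, Nat.odd_iff,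
      ← Nat.two_dvd_ne_zero]
    exact MonoidHom.not_dvd_card_ker_transferSylow W hle
  have hKN : K ≤ N := Subgroup.map_subtype_le _
  have hKnorm : ∀ n ∈ N, ∀ k ∈ K, n * k * n⁻¹ ∈ K := by
    intro n hn x hx
    obtain ⟨k, hk, rfl⟩ := Subgroup.mem_map.mp hx
    exact Subgroup.mem_map.mpr ⟨(⟨n, hn⟩ : N) * k * (⟨n, hn⟩ : N)⁻¹, hK₀n.conj_mem k hk _, rfl⟩
  have hstK : ∀ n ∈ N, ∀ x : G ⧸ H, n • x = x → n ∈ K := by
    intro n hn x hx
    refine Subgroup.mem_map.mpr ⟨⟨n, hn⟩, ?_, rfl⟩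
    rw [hK₀, MonoidHom.mem_ker]
    refine eq_one_of_twoEl_pow_odd (W.2 _) (c.odd_orderOf_of_fix hx) ?_
    rw [← map_pow, show (⟨n, hn⟩ : N) ^ orderOf n = 1 from Subtype.ext (pow_orderOf_eq_one n),
      map_one]
  by_cases hmove : ∃ k ∈ K, k • a₁ ≠ a₁
  · -- `K` is transitive on the fixed points, an even number of points
    obtain ⟨k, hk, hka⟩ := hmove
    have hset : {x | Fp x} = orbit K a₁ := by
      ext x
      constructor
      · intro hx
        by_cases hxa : x = a₁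
        · rw [hxa]; exact mem_orbit_self a₁
        obtain ⟨n, hn, hna, hnx⟩ := htransA a₁ (k • a₁) x ha₁ (hNF k (hKN hk) a₁ ha₁) hx
          (Ne.symm hka) (Ne.symm hxa)
        exact ⟨⟨n * k, K.mul_mem (hstK n hn a₁ hna) hk⟩, by
          show (n * k) • a₁ = x
          rw [mul_smul, hnx]⟩
      · rintro ⟨⟨k', hk'⟩, rfl⟩
        exact hNF k' (hKN hk') a₁ ha₁
    have hoddF : Odd (Nat.card {x | Fp x}) := by
      rw [hset, Nat.card_coe_set_eq, ← index_stabilizer]
      exact hKodd.of_dvd_nat (Subgroup.index_dvd_card _)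
    set F : Finset (G ⧸ H) := Finset.univ.filter fun x => Fp x with hF
    have h0 : ∑ _x ∈ F, (1 : ZMod 2) = 0 := by
      refine Finset.sum_involution (fun x _ => u • x) (fun x _ => by decide)
        (fun x _ _ => c.involution_moves hu2 hu1 x) (fun x hx => ?_) (fun x _ => ?_)
      · exact Finset.mem_filter.mpr ⟨Finset.mem_univ _, hNF u huN x (Finset.mem_filter.mp hx).2⟩
      · show u • u • x = x
        rw [← mul_smul, hu2, one_smul]
    rw [Finset.sum_const, nsmul_one, ZMod.natCast_eq_zero_iff_even] at h0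
    have hFc : Nat.card {x | Fp x} = F.card := by
      rw [← Nat.card_eq_finsetCard]
      exact Nat.card_congr (Equiv.subtypeEquivRight fun x => by simp [hF])
    rw [hFc] at hoddF
    exact (Nat.not_even_iff_odd.mpr hoddF) h0
  · push Not at hmove
    have hKfix : ∀ k ∈ K, ∀ x, Fp x → k • x = x := by
      intro k hk x hx
      obtain ⟨n, hn, rfl⟩ := htrans a₁ x ha₁ hx
      have h1 := congrArg (fun z => n • z) (hmove _ (hKnorm n⁻¹ (N.inv_mem hn) k hk))
      simp only [← mul_smul] at h1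
      rwa [show n * (n⁻¹ * k * n⁻¹⁻¹) = k * n by group, mul_smul] at h1
    obtain ⟨n, hn, hna, hnb⟩ := htransA a₁ b₁ d₁ ha₁ hb₁ hd₁ hab₁ had₁
    exact hbd₁ ((hKfix n (hstK n hn a₁ hna) b₁ hb₁).symm.trans hnb)

/-- An involution interchanging `a` and `b` is determined by its effect on a third point. -/
theorem eq_of_swap {u u' : G} (hu : u * u = 1) (hu' : u' * u' = 1) {a b d : G ⧸ H} (hab : a ≠ b)
    (hda : d ≠ a) (hdb : d ≠ b) (h1 : u • a = b) (h1' : u' • a = b) (hd : u • d = u' • d) :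
    u = u' := by
  by_contra hne
  have hui : u⁻¹ = u := inv_eq_of_mul_eq_one_right hu
  have hu'i : u'⁻¹ = u' := inv_eq_of_mul_eq_one_right hu'
  set z := u' * u with hz
  have hz1 : z ≠ 1 := fun h => hne (by
    rw [hz, mul_eq_one_iff_eq_inv, hui] at h
    exact h.symm)
  have hfix : z • a = a ∧ z • b = b ∧ z • d = d := by
    have hub : u • b = a := by rw [← h1, ← mul_smul, hu, one_smul]
    have hu'b : u' • b = a := by rw [← h1', ← mul_smul, hu', one_smul]
    refine ⟨?_, ?_, ?_⟩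
    · rw [hz, mul_smul, h1, hu'b]
    · rw [hz, mul_smul, hub, h1']
    · rw [hz, mul_smul, hd, ← mul_smul, hu', one_smul]
  set n := orderOf z with hn
  have hnodd : Odd n := c.odd_orderOf_of_fix hfix.1
  have hn1 : n ≠ 1 := fun h => hz1 (orderOf_eq_one_iff.mp h)
  set p := n.minFac with hp
  haveI : Fact p.Prime := ⟨Nat.minFac_prime hn1⟩
  have hpodd : Odd p := hnodd.of_dvd_nat (Nat.minFac_dvd n)
  have hp2 : p ≠ 2 := fun h => by rw [h] at hpodd; exact absurd hpodd (by decide)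
  set y := z ^ (n / p) with hy
  have hyo : orderOf y = p := by
    rw [hy, hn, orderOf_pow_orderOf_div (orderOf_pos z).ne' (by rw [← hn]; exact Nat.minFac_dvd n)]
  have hyinv : u * y * u⁻¹ = y⁻¹ := by
    rw [hy, ← conj_pow, ← inv_pow]
    congr 1
    calc u * z * u⁻¹ = u * u' := by rw [hz]; group
      _ = z⁻¹ := by rw [hz, mul_inv_rev, hui, hu'i]
  have hyfix : ∀ q ∈ Subgroup.zpowers y, q • a = a ∧ q • b = b ∧ q • d = d := fun q hq => by
    have hzs : z ∈ stabilizer G a ⊓ (stabilizer G b ⊓ stabilizer G d) :=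
      Subgroup.mem_inf.mpr ⟨hfix.1, Subgroup.mem_inf.mpr ⟨hfix.2.1, hfix.2.2⟩⟩
    have hle : Subgroup.zpowers y ≤ stabilizer G a ⊓ (stabilizer G b ⊓ stabilizer G d) :=
      Subgroup.zpowers_le.mpr (Subgroup.pow_mem _ hzs _)
    exact ⟨(hle hq).1, (hle hq).2.1, (hle hq).2.2⟩
  refine c.no_three_fixed hp2 (Q₀ := Subgroup.zpowers y)
    (IsPGroup.of_card (n := 1) (by rw [Nat.card_zpowers, hyo, pow_one])) ?_ hab hda.symm hdb.symm
    (fun q hq => (hyfix q hq).1) (fun q hq => (hyfix q hq).2.1) (fun q hq => (hyfix q hq).2.2)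
  intro x hx hx2
  by_contra hx1
  have hxy : Commute x y := hx y (Subgroup.mem_zpowers y)
  have hyodd : Odd (orderOf y) := hyo ▸ hpodd
  have hy1 : y ≠ 1 := fun h => by
    rw [h, orderOf_one] at hyo
    exact (Fact.out : p.Prime).one_lt.ne hyo
  set e := u * x with he
  have heinv : e * y * e⁻¹ = y⁻¹ := by
    rw [he, show u * x * y * (u * x)⁻¹ = u * (x * y * x⁻¹) * u⁻¹ by group, hxy.eq,
      mul_inv_cancel_right, hyinv]
  have he2 : Commute (e * e) y := by
    rw [commute_iff_eq, ← mul_inv_eq_iff_eq_mul,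
      show e * e * y * (e * e)⁻¹ = e * (e * y * e⁻¹) * e⁻¹ by group, heinv,
      show e * y⁻¹ * e⁻¹ = (e * y * e⁻¹)⁻¹ by group, heinv, inv_inv]
  have hpow : ∀ k : ℕ, Commute (e ^ (2 * k)) y := fun k => by
    rw [pow_mul, pow_two]; exact he2.pow_left k
  have hpow' : ∀ k : ℕ, e ^ (2 * k + 1) * y * (e ^ (2 * k + 1))⁻¹ = y⁻¹ := fun k => by
    rw [pow_succ', show e * e ^ (2 * k) * y * (e * e ^ (2 * k))⁻¹
      = e * (e ^ (2 * k) * y * (e ^ (2 * k))⁻¹) * e⁻¹ by group, (hpow k).eq,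
      mul_inv_cancel_right, heinv]
  rcases Nat.even_or_odd (orderOf e) with ⟨k, hk⟩ | ⟨k, hk⟩
  · have hpos := orderOf_pos e
    set w := e ^ k with hw
    have hw2 : w * w = 1 := by rw [hw, ← pow_add, ← hk, pow_orderOf_eq_one]
    have hw1 : w ≠ 1 := fun h => by
      have := Nat.le_of_dvd (by omega) (orderOf_dvd_of_pow_eq_one h)
      omega
    have hwi : w⁻¹ = w := inv_eq_of_mul_eq_one_right hw2
    obtain ⟨c1, c2⟩ := pair_conj hu hx2 k
    have hwu : Commute u w := by
      rw [← he, ← hw, hwi, mul_inv_eq_iff_eq_mul] at c1; exact c1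
    have hwx : Commute x w := by
      rw [← he, ← hw, hwi, mul_inv_eq_iff_eq_mul] at c2; exact c2
    rcases Nat.even_or_odd k with ⟨j, hj⟩ | ⟨j, hj⟩
    · refine hy1 (c.eq_one_of_inverted hw2 hw1 hu hwu ?_ hyodd hyinv)
      rw [hw, hj, ← two_mul]
      exact (hpow j).symm
    · refine hy1 (c.eq_one_of_inverted hx2 hx1 hw2 hwx.symm hxy.symm hyodd ?_)
      rw [hw, hj]
      exact hpow' j
  · have h := hpow' k
    rw [← hk, pow_orderOf_eq_one, one_mul, inv_one, mul_one] at h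
    refine hy1 (eq_one_of_twoEl_pow_odd ⟨1, ?_⟩ hyodd (pow_orderOf_eq_one y))
    rw [pow_one, pow_two]
    nth_rewrite 1 [h]
    exact inv_mul_cancel y

theorem involution_count : False := by
  classical
  haveI := Fintype.ofFinite G
  haveI := Fintype.ofFinite (G ⧸ H)
  set q := Nat.card T with hq
  have hΩ : Fintype.card (G ⧸ H) = q := by
    rw [← Nat.card_eq_fintype_card, ← Subgroup.index_eq_card, c.idx]
  set a : G ⧸ H := ((1 : G) : G ⧸ H) with ha
  set I : Finset G := Finset.univ.filter fun u => u * u = 1 ∧ u ≠ 1 with hI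
  set I₀ : Finset G := I.filter fun u => u ∈ (T : Subgroup G) with hI₀
  obtain ⟨x₀, hx₀, y₀, hy₀, hx₀2, hx₀1, hy₀2, hy₀1, hxy₀⟩ := c.exists_four
  have hq4 : 4 ≤ q := by
    have hsub : ({1, x₀, y₀, x₀ * y₀} : Finset G) ⊆
        Finset.univ.filter (fun g => g ∈ (T : Subgroup G)) := by
      intro g hg
      simp only [Finset.mem_insert, Finset.mem_singleton] at hg
      refine Finset.mem_filter.mpr ⟨Finset.mem_univ _, ?_⟩
      rcases hg with rfl | rfl | rfl | rfl
      exacts [(T : Subgroup G).one_mem, hx₀, hy₀, (T : Subgroup G).mul_mem hx₀ hy₀]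
    have h1 : x₀ ≠ y₀ := fun h => hxy₀ (by rw [h, hy₀2])
    have h2 : x₀ ≠ x₀ * y₀ := fun h => hy₀1 (by rwa [left_eq_mul] at h)
    have h3 : y₀ ≠ x₀ * y₀ := fun h => hx₀1 (by rwa [right_eq_mul] at h)
    have h4 : ({1, x₀, y₀, x₀ * y₀} : Finset G).card = 4 := by
      rw [Finset.card_insert_of_notMem (by simp [hx₀1.symm, hy₀1.symm, hxy₀.symm]),
        Finset.card_insert_of_notMem (by simp [h1, h2]),
        Finset.card_insert_of_notMem (by simp [h3]), Finset.card_singleton]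
    rw [hq, Nat.card_eq_fintype_card, Fintype.card_subtype, ← h4]
    exact Finset.card_le_card hsub
  -- the number of involutions interchanging two points
  set w := (I.filter fun u => u • a = ((x₀ : G) : G ⧸ H)).card with hw
  have hx₀a : a ≠ ((x₀ : G) : G ⧸ H) := fun h => by
    rw [ha, QuotientGroup.eq, inv_one, one_mul] at h
    exact hx₀1 (c.eq_one_of_mem_both hx₀ h)
  have hwb : ∀ b, a ≠ b → (I.filter fun u => u • a = b).card = w := by
    intro b hb
    obtain ⟨g, hga, hgb⟩ := c.two_trans hx₀a hb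
    refine (Finset.card_bij (fun u _ => g * u * g⁻¹) ?_ ?_ ?_).symm
    · intro u hu
      obtain ⟨huI, hua⟩ := Finset.mem_filter.mp hu
      obtain ⟨-, hu2, hu1⟩ := Finset.mem_filter.mp huI
      refine Finset.mem_filter.mpr ⟨Finset.mem_filter.mpr ⟨Finset.mem_univ _, ?_, ?_⟩, ?_⟩
      · rw [show g * u * g⁻¹ * (g * u * g⁻¹) = g * (u * u) * g⁻¹ by group, hu2, mul_one,
          mul_inv_cancel]
      · intro h; rw [mul_inv_eq_one, mul_eq_left] at h; exact hu1 h
      · rw [mul_smul, mul_smul, show g⁻¹ • a = a by rw [inv_smul_eq_iff, hga], hua, hgb]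
    · intro u _ v _ h
      exact mul_left_cancel (mul_right_cancel h)
    · intro v hv
      obtain ⟨hvI, hva⟩ := Finset.mem_filter.mp hv
      obtain ⟨-, hv2, hv1⟩ := Finset.mem_filter.mp hvI
      refine ⟨g⁻¹ * v * g, Finset.mem_filter.mpr ⟨Finset.mem_filter.mpr ⟨Finset.mem_univ _, ?_, ?_⟩,
        ?_⟩, by group⟩
      · rw [show g⁻¹ * v * g * (g⁻¹ * v * g) = g⁻¹ * (v * v) * g by group, hv2, mul_one,
          inv_mul_cancel]
      · intro h
        apply hv1
        calc v = g * (g⁻¹ * v * g) * g⁻¹ := by group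
          _ = 1 := by rw [h, mul_one, mul_inv_cancel]
      · rw [mul_smul, mul_smul, hga, hva, inv_smul_eq_iff, hgb]
  have hIw : I.card = (q - 1) * w := by
    rw [Finset.card_eq_sum_card_fiberwise (f := fun u : G => u • a) (t := Finset.univ.erase a)
      (fun u hu => Finset.mem_erase.mpr ⟨c.involution_moves (Finset.mem_filter.mp hu).2.1
        (Finset.mem_filter.mp hu).2.2 a, Finset.mem_univ _⟩),
      Finset.sum_congr rfl (fun b hb => hwb b (Finset.mem_erase.mp hb).1.symm),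
      Finset.sum_const, Finset.card_erase_of_mem (Finset.mem_univ a), Finset.card_univ, hΩ,
      smul_eq_mul]
  -- `T` acts semiregularly on the involutions outside it
  have hdiv : q ∣ (I \ I₀).card := by
    set J := I \ I₀ with hJ
    have hmemJ : ∀ (t : ↥(T : Subgroup G)) (u : ↥J), (t : G) * u * (t : G)⁻¹ ∈ J := by
      rintro ⟨t, ht⟩ ⟨u, hu⟩
      obtain ⟨huI, huT⟩ := Finset.mem_sdiff.mp hu
      obtain ⟨-, hu2, hu1⟩ := Finset.mem_filter.mp huI
      have hI' : t * u * t⁻¹ ∈ I := by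
        refine Finset.mem_filter.mpr ⟨Finset.mem_univ _, ?_, fun h => ?_⟩
        · rw [show t * u * t⁻¹ * (t * u * t⁻¹) = t * (u * u) * t⁻¹ by group, hu2, mul_one,
            mul_inv_cancel]
        · rw [mul_inv_eq_one, mul_eq_left] at h; exact hu1 h
      refine Finset.mem_sdiff.mpr ⟨hI', fun h => huT (Finset.mem_filter.mpr ⟨huI, ?_⟩)⟩
      have h1 := (T : Subgroup G).mul_mem
        ((T : Subgroup G).mul_mem ((T : Subgroup G).inv_mem ht) (Finset.mem_filter.mp h).2) ht
      rwa [show t⁻¹ * (t * u * t⁻¹) * t = u by group] at h1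
    letI : MulAction ↥(T : Subgroup G) ↥J :=
      { smul := fun t u => ⟨_, hmemJ t u⟩
        one_smul := fun u => Subtype.ext (show ((1 : G)) * u * (1 : G)⁻¹ = u by group)
        mul_smul := fun s t u => Subtype.ext
          (show (s : G) * t * u * ((s : G) * t)⁻¹ = (s : G) * ((t : G) * u * (t : G)⁻¹) * (s : G)⁻¹
            by group) }
    have hfree : ∀ u : ↥J, stabilizer ↥(T : Subgroup G) u = ⊥ := by
      rintro ⟨u, hu⟩
      rw [eq_bot_iff]
      rintro ⟨t, ht⟩ htu
      have e : t * u * t⁻¹ = u := congrArg Subtype.val htu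
      rw [mul_inv_eq_iff_eq_mul] at e
      rw [Subgroup.mem_bot]
      by_contra hne
      obtain ⟨huI, huT⟩ := Finset.mem_sdiff.mp hu
      refine huT (Finset.mem_filter.mpr ⟨huI, ?_⟩)
      exact c.mem_T_of_twoEl (c.mem_M_of_commute ht (fun h => hne (Subtype.ext h)) e.symm)
        ⟨1, by rw [pow_one, pow_two, (Finset.mem_filter.mp huI).2.1]⟩
    rw [← Nat.card_eq_finsetCard,
      Nat.card_congr (MulAction.selfEquivOrbitsQuotientProd hfree), Nat.card_prod]
    exact Dvd.intro_left _ rfl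
  -- `I₀` and one more element form the kernel of squaring on `T`
  have hq0 : I₀.card + 1 ∣ q := by
    let Z : Subgroup G :=
      { carrier := {g | g ∈ (T : Subgroup G) ∧ g * g = 1}
        one_mem' := ⟨(T : Subgroup G).one_mem, one_mul 1⟩
        mul_mem' := by
          rintro g k ⟨hg, hg2⟩ ⟨hk, hk2⟩
          refine ⟨(T : Subgroup G).mul_mem hg hk, ?_⟩
          rw [mul_assoc, ← mul_assoc k g k, (c.ab k hk g hg).eq, mul_assoc g k k, hk2, mul_one, hg2]
        inv_mem' := by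
          rintro g ⟨hg, hg2⟩
          exact ⟨(T : Subgroup G).inv_mem hg, by rw [← mul_inv_rev, hg2, inv_one]⟩ }
    have hZ : Nat.card Z = I₀.card + 1 := by
      rw [Nat.card_eq_fintype_card, Fintype.card_subtype,
        ← Finset.card_insert_of_notMem (a := (1 : G)) (s := I₀) (by simp [hI₀, hI])]
      congr 1
      ext g
      simp only [hI₀, hI, Finset.mem_insert, Finset.mem_filter, Finset.mem_univ, true_and]
      show (g ∈ (T : Subgroup G) ∧ g * g = 1) ↔ _
      constructor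
      · rintro ⟨h, h'⟩
        by_cases hg : g = 1
        · exact Or.inl hg
        · exact Or.inr ⟨⟨h', hg⟩, h⟩
      · rintro (rfl | ⟨⟨h', -⟩, h⟩)
        · exact ⟨(T : Subgroup G).one_mem, one_mul 1⟩
        · exact ⟨h, h'⟩
    rw [← hZ]
    exact Subgroup.card_dvd_of_le fun g hg => hg.1
  have hI₀sub : I₀ ⊆ I := Finset.filter_subset _ _
  have hw2 : 2 * w + 2 ≤ q := by
    obtain ⟨u₀, hu₀⟩ : (I.filter fun u => u • a = ((x₀ : G) : G ⧸ H)).Nonempty := by
      refine ⟨x₀, Finset.mem_filter.mpr ⟨Finset.mem_filter.mpr ⟨Finset.mem_univ _, hx₀2, hx₀1⟩, ?_⟩⟩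
      show ((x₀ * 1 : G) : G ⧸ H) = _
      rw [mul_one]
    set b : G ⧸ H := ((x₀ : G) : G ⧸ H)
    obtain ⟨hu₀I, hu₀a⟩ := Finset.mem_filter.mp hu₀
    obtain ⟨-, hu₀2, hu₀1⟩ := Finset.mem_filter.mp hu₀I
    set E : Subgroup G := stabilizer G a ⊓ stabilizer G b with hE
    have hEodd : Odd (Nat.card E) := by
      refine c.odd.of_dvd_nat ?_
      refine dvd_trans (Subgroup.card_dvd_of_le inf_le_left) ?_
      rw [ha, MulAction.stabilizer_quotient]
    -- every orbit of `E` away from `a` and `b` has at least `w` points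
    let Orb : G ⧸ H → Finset (G ⧸ H) := fun d =>
      Finset.univ.filter fun x => x ∈ orbit E d
    have horb : ∀ d, d ≠ a → d ≠ b → w ≤ (Orb d).card := by
      intro d hda hdb
      have hu₀b : u₀ • b = a := by rw [← hu₀a, ← mul_smul, hu₀2, one_smul]
      have hd'a : u₀ • d ≠ a := fun h => hdb (smul_left_cancel u₀ (h.trans hu₀b.symm))
      have hd'b : u₀ • d ≠ b := fun h => hda (smul_left_cancel u₀ (h.trans hu₀a.symm))
      rw [hw]
      refine Finset.card_le_card_of_injOn (fun u => u • (u₀ • d)) ?_ ?_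
      · intro u hu
        obtain ⟨huI, hua⟩ := Finset.mem_filter.mp hu
        obtain ⟨-, hu2, hu1⟩ := Finset.mem_filter.mp huI
        refine Finset.mem_filter.mpr ⟨Finset.mem_univ _, ⟨⟨u * u₀, ?_, ?_⟩, ?_⟩⟩
        · show (u * u₀) • a = a
          rw [mul_smul, hu₀a, ← hua, ← mul_smul, hu2, one_smul]
        · show (u * u₀) • b = b
          rw [mul_smul, hu₀b, hua]
        · exact mul_smul u u₀ d
      · intro u hu v hv h
        obtain ⟨huI, hua⟩ := Finset.mem_filter.mp hu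
        obtain ⟨hvI, hva⟩ := Finset.mem_filter.mp hv
        exact c.eq_of_swap (Finset.mem_filter.mp huI).2.1 (Finset.mem_filter.mp hvI).2.1 hx₀a hd'a
          hd'b hua hva h
    set R := (Finset.univ.erase a).erase b with hR
    have hRc : R.card = q - 2 := by
      rw [hR, Finset.card_erase_of_mem (Finset.mem_erase.mpr ⟨hx₀a.symm, Finset.mem_univ _⟩),
        Finset.card_erase_of_mem (Finset.mem_univ _), Finset.card_univ, hΩ]
      omega
    have hmemR : ∀ x, x ∈ R ↔ x ≠ b ∧ x ≠ a := fun x => by simp [hR]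
    have hsub : ∀ d ∈ R, Orb d ⊆ R := by
      intro d hd x hx
      obtain ⟨⟨g, hg⟩, rfl⟩ := (Finset.mem_filter.mp hx).2
      obtain ⟨hdb, hda⟩ := (hmemR d).mp hd
      exact (hmemR _).mpr ⟨fun h => hdb (smul_left_cancel g (h.trans hg.2.symm)),
        fun h => hda (smul_left_cancel g (h.trans hg.1.symm))⟩
    have hoddOrb : ∀ d, Odd (Orb d).card := by
      intro d
      have e : (Orb d).card = Nat.card (orbit E d) := by
        rw [← Nat.card_eq_finsetCard]
        exact Nat.card_congr (Equiv.subtypeEquivRight fun x => by simp [Orb])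
      rw [e, Nat.card_coe_set_eq, ← index_stabilizer]
      exact hEodd.of_dvd_nat (Subgroup.index_dvd_card _)
    obtain ⟨d, hd⟩ : R.Nonempty := Finset.card_pos.mp (by omega)
    have hevenR : Even R.card := by
      obtain ⟨n, hn⟩ := IsPGroup.iff_card.mp T.2
      rcases n with _ | n
      · rw [pow_zero] at hn; omega
      · rw [hRc, show q = 2 ^ (n + 1) from hn, Nat.even_iff, pow_succ]; omega
    obtain ⟨d', hd'R, hd'⟩ : ∃ d' ∈ R, d' ∉ Orb d := by
      by_contra h
      push Not at h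
      have : Orb d = R := le_antisymm (hsub d hd) h
      exact (Nat.not_even_iff_odd.mpr (hoddOrb d)) (this ▸ hevenR)
    have hdisj : Disjoint (Orb d) (Orb d') := by
      rw [Finset.disjoint_left]
      intro x hx hx'
      apply hd'
      refine Finset.mem_filter.mpr ⟨Finset.mem_univ _, ?_⟩
      rw [← orbit_eq_iff.mpr (Finset.mem_filter.mp hx).2,
        orbit_eq_iff.mpr (Finset.mem_filter.mp hx').2]
      exact mem_orbit_self d'
    have hcard := Finset.card_le_card (Finset.union_subset (hsub d hd) (hsub d' hd'R))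
    rw [Finset.card_union_of_disjoint hdisj, hRc] at hcard
    have h1 := horb d ((hmemR d).mp hd).2 ((hmemR d).mp hd).1
    have h2 := horb d' ((hmemR d').mp hd'R).2 ((hmemR d').mp hd'R).1
    omega
  have hout : I₀.card < I.card := by
    refine Finset.card_lt_card (Finset.ssubset_iff_subset_ne.mpr ⟨hI₀sub, fun h => ?_⟩)
    refine c.M_ne_top (eq_top_iff.mpr fun g _ => c.mem_M_of_conj hx₀ hx₀1 ?_)
    have : g * x₀ * g⁻¹ ∈ I := by
      refine Finset.mem_filter.mpr ⟨Finset.mem_univ _, ?_, fun h' => ?_⟩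
      · rw [show g * x₀ * g⁻¹ * (g * x₀ * g⁻¹) = g * (x₀ * x₀) * g⁻¹ by group, hx₀2, mul_one,
          mul_inv_cancel]
      · rw [mul_inv_eq_one, mul_eq_left] at h'; exact hx₀1 h'
    rw [← h] at this
    exact (Finset.mem_filter.mp this).2
  rw [Finset.card_sdiff_of_subset hI₀sub, hIw] at hdiv
  rw [hIw] at hout
  obtain ⟨k, hk⟩ := hdiv
  obtain ⟨j, hj⟩ := hq0
  have hqpos : 0 < q := by omega
  obtain ⟨q', hq'⟩ := Nat.exists_eq_add_of_le hqpos
  have hk' : q' * w = q * k + I₀.card := by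
    rw [show q - 1 = q' by omega] at hk hout
    omega
  have hw0 : 0 < w := Nat.pos_of_ne_zero fun h => by rw [h, Nat.mul_zero] at hout; omega
  have hkw : k < w := by
    by_contra h
    push Not at h
    have h1 := Nat.mul_le_mul_left q h
    have h2 : q' * w ≤ q * w := Nat.mul_le_mul_right w (by omega)
    have h3 : q * w = q' * w + w := by rw [hq']; ring
    omega
  obtain ⟨i, hi⟩ := Nat.exists_eq_add_of_le (Nat.succ_le_of_lt hkw)
  have h3 : q * i + q = w + I₀.card := by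
    have h4 : q * w = q' * w + w := by rw [hq']; ring
    have h5 : q * w = q * k + q + q * i := by rw [hi, Nat.succ_eq_add_one]; ring
    omega
  have hi0 : i = 0 := by
    by_contra h
    have : q * 1 ≤ q * i := Nat.mul_le_mul_left q (by omega)
    have hj1 : I₀.card + 1 ≤ q := Nat.le_of_dvd hqpos ⟨j, hj⟩
    omega
  rw [hi0, Nat.mul_zero, Nat.zero_add] at h3
  rcases j with _ | _ | j
  · omega
  · rw [Nat.mul_one] at hj
    have hw1 : w = 1 := by omega
    rw [hw1, Nat.mul_one] at hout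
    omega
  · have : (I₀.card + 1) * 2 ≤ q := by rw [hj]; exact Nat.mul_le_mul_left _ (by omega)
    omega

end Ctx

end Cfsg.Agent.Lib.BC77.OddHallTwo
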