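/-
A finite group with abelian Sylow 2-subgroups and a subgroup of odd order whose index is a power
of two is solvable.
-/
import Cfsg.Agent.Lib.BC77.OddHallTwo.Count
import Cfsg.Agent.Lib.OddOrder.FeitThompson

set_option autoImplicit false
set_option linter.style.haveILetI false

namespace Cfsg.Agent.Lib.BC77.OddHallTwo

universe u

/-- The elements of each 2-subgroup commute. -/
def AbTwo (G : Type*) [Group G] : Prop :=
  ∀ P : Subgroup G, IsPGroup 2 P → ∀ x ∈ P, ∀ y ∈ P, Commute x y

theorem AbTwo.subgroup {G : Type*} [Group G] (h : AbTwo G) (L : Subgroup G) : AbTwo L :=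
  fun P hP _ hx _ hy => Subtype.ext (h _ (hP.map L.subtype) _ (Subgroup.mem_map_of_mem L.subtype hx) _
    (Subgroup.mem_map_of_mem L.subtype hy)).eq

theorem AbTwo.quotient {G : Type*} [Group G] [Finite G] (h : AbTwo G) (N : Subgroup G) [N.Normal] :
    AbTwo (G ⧸ N) := by
  intro P hP x hx y hy
  obtain ⟨S, hS⟩ := hP.exists_le_sylow
  obtain ⟨S', hS'⟩ := Sylow.mapSurjective_surjective (QuotientGroup.mk'_surjective N) 2 S
  have hS'' : (S : Subgroup (G ⧸ N)) = (S' : Subgroup G).map (QuotientGroup.mk' N) := by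
    rw [← hS']; rfl
  rw [hS''] at hS
  obtain ⟨a, ha, rfl⟩ := Subgroup.mem_map.mp (hS hx)
  obtain ⟨b, hb, rfl⟩ := Subgroup.mem_map.mp (hS hy)
  exact (h _ S'.2 a ha b hb).map _

theorem AbTwo.of_sylow {G : Type*} [Group G]
    (h : ∀ (P : Sylow 2 G), IsMulCommutative (P : Subgroup G)) : AbTwo G := by
  intro P hP x hx y hy
  obtain ⟨S, hS⟩ := hP.exists_le_sylow
  haveI := h S
  exact congrArg Subtype.val
    (mul_comm' (⟨x, hS hx⟩ : (S : Subgroup G)) ⟨y, hS hy⟩)

/-- The number of cosets of `H` inside a subgroup containing a Sylow 2-subgroup. -/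
theorem relIndex_of_sylow_le {G : Type*} [Group G] [Finite G] {H : Subgroup G}
    (hH : Odd (Nat.card H)) {T : Sylow 2 G} (hT : H.index = Nat.card T) {L : Subgroup G}
    (hL : (T : Subgroup G) ≤ L) : (H.subgroupOf L).index = H.index := by
  refine le_antisymm ?_ ?_
  · show H.relIndex L ≤ H.index
    rw [← Subgroup.relIndex_top_right]
    exact Subgroup.relIndex_le_of_le_right le_top (by
      rw [Subgroup.relIndex_top_right]; exact Subgroup.FiniteIndex.index_ne_zero)
  · refine Nat.le_of_dvd (Nat.pos_of_ne_zero Subgroup.FiniteIndex.index_ne_zero) ?_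
    have h1 : Nat.card T ∣ Nat.card (H.subgroupOf L) * (H.subgroupOf L).index := by
      rw [Subgroup.card_mul_index]; exact Subgroup.card_dvd_of_le hL
    have h2 : Nat.card (H.subgroupOf L) ∣ Nat.card H := by
      rw [← Subgroup.card_map_of_injective L.subtype_injective,
        Subgroup.subgroupOf_map_subtype]
      exact Subgroup.card_dvd_of_le inf_le_left
    have h3 : (Nat.card T).Coprime (Nat.card (H.subgroupOf L)) := by
      obtain ⟨n, hn⟩ := IsPGroup.iff_card.mp T.2
      rw [show Nat.card T = 2 ^ n from hn]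
      exact Nat.Coprime.pow_left n (hH.of_dvd_nat h2).coprime_two_left
    rw [hT]
    exact h3.dvd_of_dvd_mul_left h1

theorem solvable_aux : ∀ (n : ℕ) (G : Type u) [Group G] [Finite G] (H : Subgroup G),
    Nat.card G = n → AbTwo G → Odd (Nat.card H) → (∃ k : ℕ, H.index = 2 ^ k) →
      Group.IsSolvable G := by
  intro n
  induction n using Nat.strong_induction_on with
  | _ n ih => ?_
  intro G _ _ H hn hab hodd ⟨k, hk⟩
  by_cases hG : Group.IsSolvable G
  · exact hG
  exfalso
  haveI : Nontrivial G := by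
    by_contra h
    rw [not_nontrivial_iff_subsingleton] at h
    exact hG (Group.isSolvable_of_comm fun a b => Subsingleton.elim _ _)
  have hsub : ∀ L : Subgroup G, L ≠ ⊤ → Odd (Nat.card (H.subgroupOf L)) := fun L _ => by
    refine hodd.of_dvd_nat ?_
    rw [← Subgroup.card_map_of_injective L.subtype_injective, Subgroup.subgroupOf_map_subtype]
    exact Subgroup.card_dvd_of_le inf_le_left
  have hlt : ∀ L : Subgroup G, L ≠ ⊤ → Nat.card L < n := fun L hL => by
    rw [← hn]
    refine lt_of_le_of_ne (Subgroup.card_le_card_group L) fun he => hL ?_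
    exact (Subgroup.card_eq_iff_eq_top L).1 he
  have hdiv : ∀ d : ℕ, d ∣ 2 ^ k → ∃ j : ℕ, d = 2 ^ j := fun d hd => by
    obtain ⟨j, -, hj⟩ := (Nat.dvd_prime_pow Nat.prime_two).1 hd
    exact ⟨j, hj⟩
  have hsimple : IsSimpleGroup G := by
    refine ⟨fun N hN => ?_⟩
    by_contra hne
    push Not at hne
    haveI := hN
    have hNs : Group.IsSolvable N := by
      refine ih _ (hlt N hne.2) N (H.subgroupOf N) rfl (hab.subgroup N) (hsub N hne.2)
        (hdiv _ (hk ▸ ?_))
      show H.relIndex N ∣ H.index
      have h1 := Subgroup.relIndex_mul_relIndex (H ⊓ N) H (H ⊔ N) inf_le_left le_sup_left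
      have h2 := Subgroup.relIndex_mul_relIndex (H ⊓ N) N (H ⊔ N) inf_le_right le_sup_right
      rw [Subgroup.inf_relIndex_left] at h1
      rw [Subgroup.inf_relIndex_right, Subgroup.relIndex_sup_right, ← h1, mul_comm] at h2
      have h3 : H.relIndex N = H.relIndex (H ⊔ N) :=
        Nat.eq_of_mul_eq_mul_left (Nat.pos_of_ne_zero (Subgroup.FiniteIndex.index_ne_zero)) h2
      rw [h3]
      exact Dvd.intro _ (Subgroup.relIndex_mul_index le_sup_left)
    have hQs : Group.IsSolvable (G ⧸ N) := by
      refine ih _ ?_ (G ⧸ N) (H.map (QuotientGroup.mk' N)) rfl (hab.quotient N)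
        (hodd.of_dvd_nat (Subgroup.card_map_dvd _ _))
        (hdiv _ (hk ▸ Subgroup.index_map_dvd H (QuotientGroup.mk'_surjective N)))
      rw [← hn, Subgroup.card_eq_card_quotient_mul_card_subgroup N]
      exact lt_mul_of_one_lt_right Nat.card_pos ((Subgroup.one_lt_card_iff_ne_bot N).2 hne.1)
    exact hG ((Group.isSolvable_iff_subgroup_quotient N).2 ⟨hNs, hQs⟩)
  obtain ⟨T⟩ : Nonempty (Sylow 2 G) := inferInstance
  have hT : H.index = Nat.card T := by
    rw [hk, T.card_eq_multiplicity, ← Subgroup.card_mul_index H, hk,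
      Nat.factorization_mul Nat.card_pos.ne' (pow_ne_zero _ two_ne_zero)]
    simp [Nat.factorization_eq_zero_of_not_dvd (Nat.two_dvd_ne_zero.mpr (Nat.odd_iff.mp hodd)),
      Nat.factorization_pow, Nat.prime_two.factorization_self]
  have c : Ctx H T :=
    { ab := fun x hx y hy => hab _ T.2 x hx y hy
      odd := hodd
      idx := hT
      simple := hsimple
      nonab := hG
      oddSolvable := fun h => OddOrder.FeitThompson.isSolvable_of_odd_card h
      ih := fun L hL hLT => by
        refine ih _ (hlt L hL) L (H.subgroupOf L) rfl (hab.subgroup L) (hsub L hL) ?_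
        rcases hLT with hTL | hHL
        · exact ⟨k, (relIndex_of_sylow_le hodd hT hTL).trans hk⟩
        · exact hdiv _ (hk ▸ Subgroup.relIndex_dvd_index_of_le hHL) }
  exact c.involution_count

/-- A finite group with abelian Sylow 2-subgroups having a subgroup of odd order and 2-power index
is solvable. -/
theorem isSolvable_of_odd_two_power_index {G : Type u} [Group G] [Finite G] (hab : AbTwo G)
    {H : Subgroup G} (hodd : Odd (Nat.card H)) {k : ℕ} (hk : H.index = 2 ^ k) :
    Group.IsSolvable G :=
  solvable_aux _ G H rfl hab hodd ⟨k, hk⟩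

end Cfsg.Agent.Lib.BC77.OddHallTwo
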